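import Mathlib
import Cfsg.Prelude.Def_FusionSystem
import Cfsg.Agent.Lib.Helper25.Fusion

/-!
# S5141 (Craven: weakly normal `E` ⟹ `O^{p'}(E)` normal), design helper8, `Lib/WNO`: definitions

Notation: `F` saturated on `S`, `T` strongly closed in `F`, `K := centralizerIn S T = C_S(T)`.

* `TCen F T Q`: `Q ≤ T` and every `F`-conjugate `Q'` of `Q` has `C_T(Q') ≤ Q'`.
* `FixL Q K ξ`: the automorphism `ξ` of `Q ⊔ K` fixes `Q` elementwise.
* `Good F T P φ`: `φ : P →* Ω` extends to a map `ψ` of `F` on `P ⊔ K` with `c⁻¹ ψ(c) ∈ T` for all `c ∈ K`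
  (for `P = T` this is the extension condition in `FusionSystem.IsNormalIn`).

PLAN (pure `F`-part, this folder):
`kc_ext`/`kc_step`: a `p'`-automorphism `ξ ∈ Aut_F(QK)` fixing `Q` elementwise (`Q` `TCen`) extends to a
`p'`-automorphism of `N_T(Q) K` in `F` fixing `N_T(Q)` elementwise.  `kc_top`: iterate up to `T K`.
`rigid`: `β ∈ Aut_F(T)` of order prime to `p` whose restriction to a `TCen` subgroup `Q` is `Good`, is `Good`.
-/

set_option autoImplicit false

namespace Cfsg.Agent.Helper8.WNO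

open Cfsg Cfsg.FusionSystem Cfsg.Agent.Helper25

variable {Ω : Type*} [Group Ω] {S : Subgroup Ω}

/-- `Q ≤ T` and every `F`-conjugate of `Q` contains its centralizer in `T`. -/
def TCen (F : FusionSystem S) (T Q : Subgroup Ω) : Prop :=
  Q ≤ T ∧ ∀ Q' : Subgroup Ω, F.IsConj Q Q' → centralizerIn T Q' ≤ Q'

/-- The automorphism `ξ` of `Q ⊔ K` fixes `Q` elementwise. -/
def FixL (Q K : Subgroup Ω) (ξ : MulAut ↥(Q ⊔ K)) : Prop :=
  ∀ x : Q, ξ (Subgroup.inclusion le_sup_left x) = Subgroup.inclusion le_sup_left x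

/-- `φ` extends to `P ⊔ C_S(T)` by a map of `F` moving each `c ∈ C_S(T)` inside `c T`. -/
def Good (F : FusionSystem S) (T P : Subgroup Ω) (φ : P →* Ω) : Prop :=
  ∃ ψ ∈ F.Hom (P ⊔ centralizerIn S T),
    (∀ x : P, ψ (Subgroup.inclusion le_sup_left x) = φ x) ∧
    ∀ c : centralizerIn S T, (c : Ω)⁻¹ * ψ (Subgroup.inclusion le_sup_right c) ∈ T

theorem tCen_le {F : FusionSystem S} {T Q : Subgroup Ω} (h : TCen F T Q) : Q ≤ T := h.1

theorem tCen_self_le {F : FusionSystem S} {T Q : Subgroup Ω} (hTS : T ≤ S) (h : TCen F T Q) :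
    centralizerIn T Q ≤ Q :=
  h.2 Q (isConj_refl F (h.1.trans hTS))

end Cfsg.Agent.Helper8.WNO
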