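import Mathlib
import Cfsg.Agent.Lib.WNO.WNODefs

/-!
# S5141 farm (design helper8), piece WNO-SYL (SHORT)
(Mathlib only) `le_sylow_of_normal`: a normal `p`-subgroup lies in every Sylow `p`-subgroup
(`IsPGroup.exists_le_sylow`, Sylow conjugacy `MulAction.exists_smul_eq G P' P`, normality of `N`).
Keep statements, names, namespace exactly; you may add imports; aux names with prefix `wnosyl_`.
-/

set_option autoImplicit false

namespace Cfsg.Agent.Helper8.WNO

open Cfsg Cfsg.FusionSystem Cfsg.Agent.Helper25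

variable {Ω : Type*} [Group Ω] {S : Subgroup Ω}

open scoped Pointwise in
theorem le_sylow_of_normal {G : Type*} [Group G] [Finite G] {p : ℕ} [Fact p.Prime]
    (N : Subgroup G) [N.Normal] (hN : IsPGroup p N) (P : Sylow p G) : N ≤ (P : Subgroup G) := by
  obtain ⟨P', hP'⟩ := hN.exists_le_sylow
  obtain ⟨g, hg⟩ := MulAction.exists_smul_eq G P' P
  intro x hx
  have hx' : g⁻¹ * x * g⁻¹⁻¹ ∈ N := ‹N.Normal›.conj_mem x hx g⁻¹
  have h1 : g⁻¹ * x * g⁻¹⁻¹ ∈ (P' : Subgroup G) := hP' hx'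
  rw [← hg, Sylow.smul_def]
  show x ∈ (MulAut.conj g • P' : Sylow p G).toSubgroup
  rw [Sylow.pointwise_smul_def, Subgroup.mem_pointwise_smul_iff_inv_smul_mem]
  have e : (MulAut.conj g)⁻¹ • x = g⁻¹ * x * g⁻¹⁻¹ := by
    simp [MulAut.smul_def]
  rw [e]
  exact h1

end Cfsg.Agent.Helper8.WNO
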