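import Mathlib
import Cfsg.Agent.Lib.WNO.WNODefs
import Cfsg.Agent.Lib.WNO.WNOSyl
import Cfsg.Agent.Lib.Helper3.OliverB1

/-!
# S5141 farm (design helper8), pieces WNO-CHAIN (MEDIUM) and WNO-EXTA (MEDIUM)

`W` fully automized in `F`, `Y : Subgroup W` invariant under `Aut_F(W)`.

* (WNO-CHAIN) `stab_inf_le_autS`: the automorphisms of `W` in `F` which are trivial on `Y` and on `W / Y`
  (`Helper3.TT.stab Y`) are induced by `S`.  Proof: `C := TT.stab Y ⊓ F.autGroup W` is a `p`-group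
  (`Helper3.OL.isPGroup_stab'`, `W` is a `p`-group since `W ≤ S`, `Finite W` by `Helper25.finite_of_le_finite`)
  and normalized by `Aut_F(W)` (copy the normality part of `Helper3.OL.mem_of_stab` in
  `Lib/Helper3/OliverB1.lean`: `Helper3.OL.stab_conj` and `Y.map α = Y` by cardinality).  So
  `C.subgroupOf (F.autGroup W)` is a normal `p`-subgroup, hence inside the Sylow subgroup `R` given by `hfa`
  (`le_sylow_of_normal`), and `R = (autInducedBy S W).subgroupOf _`.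
* (WNO-EXTA) `mem_extender_of_chain`: `ξ ∈ Aut_F(W)` fixing `Y` elementwise, `g ∈ N_S(W)` whose conjugation `c`
  on `W` preserves `Y` and is trivial on `W / Y`.  Then `g` lies in the extender of `ξ`.  Proof:
  `σ := ξ * c * ξ⁻¹ * c⁻¹ ∈ F.autGroup W` (`c ∈ autInducedBy S W ≤ F.autGroup W`:
  `Helper25.mem_autInducedBy_iff`, `Helper25.autInducedBy_le_autGroup`).  `σ ∈ TT.stab Y`: `c⁻¹` preserves `Y`
  (`c` maps the finite `Y` injectively into itself), so `σ y = ξ (c (ξ⁻¹ (c⁻¹ y))) = ξ (c (c⁻¹ y)) = y`; and for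
  `w : W` put `u := ξ⁻¹ (c⁻¹ w)`, `y := c u * u⁻¹ ∈ Y`: `σ w = ξ (y * u) = y * c⁻¹ w` and
  `c⁻¹ w * w⁻¹ = (c (c⁻¹ w) * (c⁻¹ w)⁻¹)⁻¹ ∈ Y`.  By `stab_inf_le_autS`, `σ` is conjugation by some `h ∈ S`, so
  `ξ (c x) = σ (c (ξ x)) = (h * g) * ξ x * (h * g)⁻¹`; conclude with `Helper25.mem_extender_iff`
  (witness `h * g`).
Keep statements, names, namespace exactly; you may add imports; aux names with prefix `wnochain_`.
-/

set_option autoImplicit false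

namespace Cfsg.Agent.Helper8.WNO

open Cfsg Cfsg.FusionSystem Cfsg.Agent.Helper25 Cfsg.Agent.Helper3

variable {Ω : Type*} [Group Ω] {S : Subgroup Ω}

theorem stab_inf_le_autS [Finite S] (p : ℕ) [Fact p.Prime] (hS : IsPGroup p S) (F : FusionSystem S)
    {W : Subgroup Ω} (hfa : F.IsFullyAutomized p W) (Y : Subgroup W)
    (hY : ∀ α ∈ F.autGroup W, ∀ y ∈ Y, α y ∈ Y) :
    TT.stab Y ⊓ F.autGroup W ≤ autInducedBy S W := by
  obtain ⟨hWS, R, hR⟩ := hfa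
  haveI : Finite W := finite_of_le_finite hWS
  haveI : Finite (MulAut W) :=
    Finite.of_injective (fun α : MulAut W => (α : W → W)) DFunLike.coe_injective
  have hWp : IsPGroup p W := hS.to_le hWS
  have hCp : IsPGroup p ↥(TT.stab Y ⊓ F.autGroup W) :=
    (OL.isPGroup_stab' hWp Y).to_le inf_le_left
  have hC' : IsPGroup p ((TT.stab Y ⊓ F.autGroup W).subgroupOf (F.autGroup W)) :=
    hCp.comap_of_injective (F.autGroup W).subtype (F.autGroup W).subtype_injective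
  haveI hCn : ((TT.stab Y ⊓ F.autGroup W).subgroupOf (F.autGroup W)).Normal := by
    constructor
    rintro ⟨h, hhA⟩ hh ⟨α, hα⟩
    have hh' : h ∈ TT.stab Y ⊓ F.autGroup W := Subgroup.mem_subgroupOf.mp hh
    apply Subgroup.mem_subgroupOf.mpr
    show α * h * α⁻¹ ∈ TT.stab Y ⊓ F.autGroup W
    refine ⟨?_, (F.autGroup W).mul_mem ((F.autGroup W).mul_mem hα hhA) ((F.autGroup W).inv_mem hα)⟩
    have hmap : Y.map α.toMonoidHom = Y := by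
      apply Subgroup.eq_of_le_of_card_ge
      · rintro _ ⟨w, hw, rfl⟩
        exact hY α hα w hw
      · rw [Subgroup.card_map_of_injective α.injective]
    have := OL.stab_conj α h hh'.1
    rwa [hmap] at this
  have hle := le_sylow_of_normal ((TT.stab Y ⊓ F.autGroup W).subgroupOf (F.autGroup W)) hC' R
  intro c hc
  have hcA : c ∈ F.autGroup W := hc.2
  have h1 : (⟨c, hcA⟩ : F.autGroup W) ∈ (R : Subgroup (F.autGroup W)) :=
    hle (Subgroup.mem_subgroupOf.mpr hc)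
  rw [hR] at h1
  exact Subgroup.mem_subgroupOf.mp h1

theorem mem_extender_of_chain [Finite S] (p : ℕ) [Fact p.Prime] (hS : IsPGroup p S)
    (F : FusionSystem S) {W : Subgroup Ω} (hfa : F.IsFullyAutomized p W) (Y : Subgroup W)
    (hY : ∀ α ∈ F.autGroup W, ∀ y ∈ Y, α y ∈ Y)
    (ξ : MulAut W) (hξ : ξ ∈ F.autGroup W) (hξY : ∀ y ∈ Y, ξ y = y)
    (g : Ω) (hgS : g ∈ S) (hgN : g ∈ Subgroup.normalizer (W : Set Ω))
    (c : MulAut W) (hc : ∀ w : W, ((c w : W) : Ω) = g * (w : Ω) * g⁻¹)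
    (hcY : ∀ y ∈ Y, c y ∈ Y) (hcW : ∀ w : W, c w * w⁻¹ ∈ Y) :
    g ∈ extender S W (W.subtype.comp ξ.toMonoidHom) := by
  have hWS : W ≤ S := hfa.1
  have hcS : c ∈ autInducedBy S W := (mem_autInducedBy_iff c).mpr ⟨g, hgS, hc⟩
  have hcA : c ∈ F.autGroup W := autInducedBy_le_autGroup F hWS hcS
  have hcinvY : ∀ y ∈ Y, c⁻¹ y ∈ Y := by
    intro y hy
    have h1 := hcW (c⁻¹ y)
    rw [MulAut.apply_inv_self] at h1
    have h2 := Y.mul_mem (Y.inv_mem h1) hy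
    simpa using h2
  have hξinv : ∀ y ∈ Y, ξ⁻¹ y = y := by
    intro y hy
    calc ξ⁻¹ y = ξ⁻¹ (ξ y) := by rw [hξY y hy]
      _ = y := MulAut.inv_apply_self _ _ _
  have hσA : ξ * c * ξ⁻¹ * c⁻¹ ∈ F.autGroup W :=
    mul_mem (mul_mem (mul_mem hξ hcA) (inv_mem hξ)) (inv_mem hcA)
  have hσ : ξ * c * ξ⁻¹ * c⁻¹ ∈ TT.stab Y := by
    refine ⟨fun y hy => ?_, fun w => ?_⟩
    · show ξ (c (ξ⁻¹ (c⁻¹ y))) = y
      rw [hξinv _ (hcinvY y hy), MulAut.apply_inv_self, hξY y hy]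
    · show ξ (c (ξ⁻¹ (c⁻¹ w))) * w⁻¹ ∈ Y
      have hy1 := hcW (ξ⁻¹ (c⁻¹ w))
      have e1 : c (ξ⁻¹ (c⁻¹ w)) =
          (c (ξ⁻¹ (c⁻¹ w)) * (ξ⁻¹ (c⁻¹ w))⁻¹) * ξ⁻¹ (c⁻¹ w) := by group
      have e2 : ξ (c (ξ⁻¹ (c⁻¹ w))) = (c (ξ⁻¹ (c⁻¹ w)) * (ξ⁻¹ (c⁻¹ w))⁻¹) * c⁻¹ w := by
        calc ξ (c (ξ⁻¹ (c⁻¹ w)))
            = ξ ((c (ξ⁻¹ (c⁻¹ w)) * (ξ⁻¹ (c⁻¹ w))⁻¹) * ξ⁻¹ (c⁻¹ w)) := congrArg ξ e1
          _ = ξ (c (ξ⁻¹ (c⁻¹ w)) * (ξ⁻¹ (c⁻¹ w))⁻¹) * ξ (ξ⁻¹ (c⁻¹ w)) := map_mul ξ _ _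
          _ = (c (ξ⁻¹ (c⁻¹ w)) * (ξ⁻¹ (c⁻¹ w))⁻¹) * c⁻¹ w := by
              rw [hξY _ hy1, MulAut.apply_inv_self]
      have h2 := hcW (c⁻¹ w)
      rw [MulAut.apply_inv_self] at h2
      have h3 : c⁻¹ w * w⁻¹ ∈ Y := by
        have := Y.inv_mem h2
        simpa using this
      rw [e2, mul_assoc]
      exact Y.mul_mem hy1 h3
  obtain ⟨h, hhS, hh⟩ :=
    (mem_autInducedBy_iff _).mp (stab_inf_le_autS p hS F hfa Y hY ⟨hσ, hσA⟩)
  rw [mem_extender_iff]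
  refine ⟨hgS, hgN, h * g, S.mul_mem hhS hgS, fun x hx => ?_⟩
  have ex : (⟨g * (x : Ω) * g⁻¹, hx⟩ : W) = c x := Subtype.ext (hc x).symm
  rw [ex]
  show ((ξ (c x) : W) : Ω) = h * g * ((ξ x : W) : Ω) * (h * g)⁻¹
  have e3 : ξ (c x) = (ξ * c * ξ⁻¹ * c⁻¹) (c (ξ x)) := by
    simp [MulAut.mul_apply]
  rw [e3, hh, hc]
  group

end Cfsg.Agent.Helper8.WNO
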