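import Mathlib
import Cfsg.Agent.Lib.WNO.WNODefs

/-!
# S5141 farm (design helper8), piece WNO-TCEN (SHORT-MEDIUM)
* `tCen_of_le`: an overgroup `R` (inside `T`) of a `TCen` subgroup `Q` is `TCen`.  For `R' = φ.range`,
  `φ ∈ F.Hom R`: `φ' := φ.comp (Subgroup.inclusion hQR) ∈ F.Hom Q` (`Helper25.restrict_mem`),
  `Q' := φ'.range ≤ R'`, `F.IsConj Q Q' := ⟨φ', _, rfl⟩`, and `C_T(R') ≤ C_T(Q') ≤ Q' ≤ R'`
  (`Helper25.mem_centralizerIn`).
* `mem_left_of_mem_sup`: `(Q ⊔ C_S(T)) ∩ T = Q` when `C_T(Q) ≤ Q`.  `centralizerIn S T` centralizes `Q`, so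
  `x = q * c` with `q ∈ Q`, `c ∈ C_S(T)` (closure induction on the predicate
  `∃ q ∈ Q, ∃ c ∈ C_S(T), x = q * c`, or `Subgroup.coe_mul_of_left_le_normalizer_right`); then
  `c = q⁻¹ x ∈ T` and `c` centralizes `T ⊇ Q`, so `c ∈ centralizerIn T Q ≤ Q`.
Keep statements, names, namespace exactly; you may add imports; aux names with prefix `wnotcen_`.
-/

set_option autoImplicit false

namespace Cfsg.Agent.Helper8.WNO

open Cfsg Cfsg.FusionSystem Cfsg.Agent.Helper25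

variable {Ω : Type*} [Group Ω] {S : Subgroup Ω}

theorem tCen_of_le {F : FusionSystem S} {T Q R : Subgroup Ω} (hQ : TCen F T Q) (hQR : Q ≤ R)
    (hRT : R ≤ T) : TCen F T R := by
  refine ⟨hRT, ?_⟩
  rintro R' ⟨φ, hφ, rfl⟩
  have hφ' : φ.comp (Subgroup.inclusion hQR) ∈ F.Hom Q := restrict_mem F hQR hφ
  have hle : (φ.comp (Subgroup.inclusion hQR)).range ≤ φ.range := by
    rintro _ ⟨x, rfl⟩
    exact ⟨Subgroup.inclusion hQR x, rfl⟩
  have hconj : F.IsConj Q (φ.comp (Subgroup.inclusion hQR)).range := ⟨_, hφ', rfl⟩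
  intro x hx
  have hx' : x ∈ centralizerIn T (φ.comp (Subgroup.inclusion hQR)).range :=
    ⟨hx.1, Subgroup.centralizer_le (SetLike.coe_subset_coe.mpr hle) hx.2⟩
  exact hle (hQ.2 _ hconj hx')

theorem mem_left_of_mem_sup {T Q : Subgroup Ω} (hQT : Q ≤ T) (hcen : centralizerIn T Q ≤ Q)
    {x : Ω} (hx : x ∈ Q ⊔ centralizerIn S T) (hxT : x ∈ T) : x ∈ Q := by
  have hcomm : ∀ q ∈ Q, ∀ c ∈ centralizerIn S T, c * q = q * c := by
    intro q hq c hc
    have h1 := Subgroup.mem_centralizer_iff.mp hc.2 q (hQT hq)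
    exact h1.symm
  have hdec : ∀ y ∈ Q ⊔ centralizerIn S T, ∃ q ∈ Q, ∃ c ∈ centralizerIn S T, y = q * c := by
    intro y hy
    rw [Subgroup.sup_eq_closure] at hy
    induction hy using Subgroup.closure_induction with
    | mem y hy =>
      rcases hy with hy | hy
      · exact ⟨y, hy, 1, Subgroup.one_mem _, by simp⟩
      · exact ⟨1, Subgroup.one_mem _, y, hy, by simp⟩
    | one => exact ⟨1, Subgroup.one_mem _, 1, Subgroup.one_mem _, by simp⟩
    | mul a b _ _ iha ihb =>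
      obtain ⟨q1, hq1, c1, hc1, rfl⟩ := iha
      obtain ⟨q2, hq2, c2, hc2, rfl⟩ := ihb
      refine ⟨q1 * q2, Q.mul_mem hq1 hq2, c1 * c2, Subgroup.mul_mem _ hc1 hc2, ?_⟩
      calc q1 * c1 * (q2 * c2) = q1 * (c1 * q2) * c2 := by simp only [mul_assoc]
        _ = q1 * (q2 * c1) * c2 := by rw [hcomm q2 hq2 c1 hc1]
        _ = q1 * q2 * (c1 * c2) := by simp only [mul_assoc]
    | inv a _ iha =>
      obtain ⟨q, hq, c, hc, rfl⟩ := iha
      refine ⟨q⁻¹, Q.inv_mem hq, c⁻¹, Subgroup.inv_mem _ hc, ?_⟩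
      rw [mul_inv_rev]
      exact hcomm q⁻¹ (Q.inv_mem hq) c⁻¹ (Subgroup.inv_mem _ hc)
  obtain ⟨q, hq, c, hc, rfl⟩ := hdec x hx
  have hcT : c ∈ T := by
    have e : c = q⁻¹ * (q * c) := by group
    rw [e]
    exact T.mul_mem (T.inv_mem (hQT hq)) hxT
  have hcQ : c ∈ Q :=
    hcen ⟨hcT, Subgroup.centralizer_le (SetLike.coe_subset_coe.mpr hQT) hc.2⟩
  exact Q.mul_mem hq hcQ

end Cfsg.Agent.Helper8.WNO
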