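import Mathlib
import Cfsg.Agent.Lib.WNO.WNODefs
import Cfsg.Agent.Lib.WNO.WNOTCen
import Cfsg.Agent.Lib.WNO.WNOChain
import Cfsg.Agent.Lib.CSE.CSEFnMap
import Cfsg.Agent.Lib.CSE.CSEExtQ
import Cfsg.Agent.Lib.Helper25.FusionSat3
import Cfsg.Agent.Lib.Helper25.FusionTransport
import Cfsg.Agent.Lib.Helper25.FusionNormal3

/-!
# S5141 farm (design helper8), piece WNO-KCEXT (LONG)

`F` saturated on `S`, `T` strongly closed, `K := centralizerIn S T`, `Q` a `TCen` subgroup, `V := Q ⊔ K`,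
`ξ ∈ Aut_F(V)` fixing `Q` elementwise.  Then `ξ` extends to a map of `F` on `V₁ := N_T(Q) ⊔ K`.

Recipe.  `T ⊴ S` (`Helper25.mem_normalizer_of_stronglyClosed`), so `K ⊴ S`; every `t ∈ N_T(Q)` normalizes `V`,
hence `V₁ ≤ N := normalizerIn S V`.  `Helper3.CSE.exists_fn_map` (with `R := V`) gives `ψ ∈ F.Hom N` with
`W := ψ(V)` fully normalized, so fully automized and receptive (`Helper25.of_fullyNormalized`).
Let `e : V ≃* W` be the restriction of `ψ`, `ξ' := MulAut.congr e ξ ∈ F.autGroup W`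
(`Helper25.congr_mem_autGroup'`), `Y := T.subgroupOf W`.
* `Y` is `Aut_F(W)`-invariant (strong closure: `hT.2`).
* `ξ'` fixes `Y` elementwise: `y = ψ x` with `x ∈ V`; `ψ x ∈ T` forces `x ∈ T` (apply strong closure to the
  inverse of `ψ`, `F.inv_mem`), so `x ∈ Q` by `mem_left_of_mem_sup` (`tCen_self_le`), and `ξ x = x`.
* for `t ∈ N_T(Q)`: `g := ψ t ∈ T ∩ N_S(W)`; its conjugation `c` on `W` (`Helper3.OL.kapN`) preserves `Y`
  (`T ⊴ S`) and `c w * w⁻¹ = g * (w g⁻¹ w⁻¹) ∈ T`.  So `g ∈ extender S W (W.subtype.comp ξ'.toMonoidHom)` by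
  `mem_extender_of_chain`; also `W ≤ extender` (`Helper25.le_extender`), hence `ψ(V₁) ≤ extender`.
* receptivity of `W` gives `Ψ ∈ F.Hom (extender ..)` extending `ξ'`.  For `g = ψ t` as above and `y ∈ Y`:
  `Ψ g * y * (Ψ g)⁻¹ = Ψ (g y g⁻¹) = g y g⁻¹`, so `g⁻¹ * Ψ g` centralizes `ψ(Q)` and lies in `T`
  (strong closure), hence in `centralizerIn T (ψ Q) ≤ ψ Q` (`hQ.2`, as `ψ Q` is `F`-conjugate to `Q`).
  So `Ψ` maps `ψ(V₁)` into `ψ(N)` (use `Helper3.CSE.cseextq_sup_mem` or `sup_le` on `Subgroup.map`).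
* `Ξ := θ ∘ Ψ ∘ ψ|V₁` with `θ` the inverse of `ψ` (`F.inv_mem`), built with `F.comp_mem` / `Helper25.restrict_mem`.
  On `v ∈ V`: `Ξ v = θ (ξ' (ψ v)) = θ (ψ (ξ v)) = ξ v`.
Keep statement, name, namespace exactly; you may add imports; aux names with prefix `wnokcext_`.
-/

set_option autoImplicit false

namespace Cfsg.Agent.Helper8.WNO

open Cfsg Cfsg.FusionSystem Cfsg.Agent.Helper25 Cfsg.Agent.Helper3

variable {Ω : Type*} [Group Ω] {S : Subgroup Ω}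

/-- strong closure, for an arbitrary map of the system -/
theorem wnokcext_hom_mem (F : FusionSystem S) {T P : Subgroup Ω} (hT : F.StronglyClosed T)
    {φ : P →* Ω} (hφ : φ ∈ F.Hom P) {x : P} (hx : (x : Ω) ∈ T) : φ x ∈ T := by
  have h1 := restrict_mem F (inf_le_left : P ⊓ T ≤ P) hφ
  exact hT.2 (P ⊓ T) inf_le_right _ h1 ⟨(x : Ω), ⟨x.2, hx⟩⟩

/-- conjugation by an element of `S` preserves `C_S(T)` when `T` is strongly closed -/
theorem wnokcext_conj_cent (F : FusionSystem S) {T : Subgroup Ω} (hT : F.StronglyClosed T) {h : Ω}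
    (hhS : h ∈ S) {c : Ω} (hc : c ∈ centralizerIn S T) : h * c * h⁻¹ ∈ centralizerIn S T := by
  rw [mem_centralizerIn] at hc ⊢
  refine ⟨S.mul_mem (S.mul_mem hhS hc.1) (S.inv_mem hhS), fun r hr => ?_⟩
  have hr' : h⁻¹ * r * h ∈ T := conj_mem_of_stronglyClosed' F hT hhS hr
  have hcomm := hc.2 _ hr'
  calc r * (h * c * h⁻¹) = h * ((h⁻¹ * r * h) * c) * h⁻¹ := by group
    _ = h * (c * (h⁻¹ * r * h)) * h⁻¹ := by rw [hcomm]
    _ = h * c * h⁻¹ * r := by group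

/-- the image of a subgroup normalized by `m` is normalized by the image of `m` -/
theorem wnokcext_conj_map {N V : Subgroup Ω} (ψ : N →* Ω) (m : N)
    (hm : (m : Ω) ∈ Subgroup.normalizer (V : Set Ω)) :
    ∀ w ∈ (V.subgroupOf N).map ψ, ψ m * w * (ψ m)⁻¹ ∈ (V.subgroupOf N).map ψ := by
  rintro w ⟨n, hn, rfl⟩
  refine ⟨m * n * m⁻¹, ?_, by rw [map_mul, map_mul, map_inv]⟩
  have hn' : (n : Ω) ∈ V := Subgroup.mem_subgroupOf.1 hn
  exact Subgroup.mem_subgroupOf.2 ((Subgroup.mem_normalizer_iff.1 hm _).1 hn')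

/-- a pure group computation -/
theorem wnokcext_comm {G g q : Ω} (h : G * q * G⁻¹ = g * q * g⁻¹) :
    q * (g⁻¹ * G) = g⁻¹ * G * q := by
  calc q * (g⁻¹ * G) = g⁻¹ * (g * q * g⁻¹) * G := by group
    _ = g⁻¹ * (G * q * G⁻¹) * G := by rw [h]
    _ = g⁻¹ * G * q := by group

theorem kc_ext [Finite S] (p : ℕ) [Fact p.Prime] (hS : IsPGroup p S) (F : FusionSystem S)
    (hF : F.IsSaturated p) {T Q : Subgroup Ω} (hT : F.StronglyClosed T) (hQ : TCen F T Q)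
    (ξ : MulAut ↥(Q ⊔ centralizerIn S T)) (hξ : ξ ∈ F.autGroup (Q ⊔ centralizerIn S T))
    (hfix : FixL Q (centralizerIn S T) ξ) :
    ∃ Ξ ∈ F.Hom (normalizerIn T Q ⊔ centralizerIn S T),
      ∀ (y : Ω) (hy : y ∈ Q ⊔ centralizerIn S T) (hy' : y ∈ normalizerIn T Q ⊔ centralizerIn S T),
        Ξ ⟨y, hy'⟩ = ((ξ ⟨y, hy⟩ : ↥(Q ⊔ centralizerIn S T)) : Ω) := by
  have hTS : T ≤ S := hT.1
  have hQT : Q ≤ T := hQ.1
  have hKS : centralizerIn S T ≤ S := centralizerIn_le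
  have hVS : Q ⊔ centralizerIn S T ≤ S := sup_le (hQT.trans hTS) hKS
  have hVN : Q ⊔ centralizerIn S T ≤ normalizerIn S (Q ⊔ centralizerIn S T) := le_normalizerIn hVS
  have hA₁ : normalizerIn T Q ≤ normalizerIn T Q ⊔ centralizerIn S T := le_sup_left
  have hB₁ : centralizerIn S T ≤ normalizerIn T Q ⊔ centralizerIn S T := le_sup_right
  have hBV : centralizerIn S T ≤ Q ⊔ centralizerIn S T := le_sup_right
  -- every element of `S` normalizes `K`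
  have hKn : ∀ s ∈ S, s ∈ Subgroup.normalizer ((centralizerIn S T : Subgroup Ω) : Set Ω) := by
    intro s hs
    apply mem_normalizer_of_forall
    · intro c hc
      exact wnokcext_conj_cent F hT hs hc
    · intro c hc
      have h1 := wnokcext_conj_cent F hT (S.inv_mem hs) hc
      rwa [inv_inv] at h1
  -- `V₁ ≤ N`
  have hV₁N : normalizerIn T Q ⊔ centralizerIn S T ≤ normalizerIn S (Q ⊔ centralizerIn S T) := by
    refine sup_le ?_ (le_sup_right.trans hVN)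
    intro t ht
    exact ⟨hTS ht.1, Subgroup.normalizer_inf_normalizer_le_normalizer_sup Q (centralizerIn S T)
      ⟨ht.2, hKn t (hTS ht.1)⟩⟩
  obtain ⟨W, ψ, hWfn, hψ, hψV⟩ := Cfsg.Agent.Helper3.CSE.exists_fn_map p hS F hF hVS
  obtain ⟨-, hWfa, hWrec⟩ := of_fullyNormalized p hS F hF hWfn
  have hWS : W ≤ S := hWfn.1
  have hψS : ∀ n, ψ n ∈ S := (F.le_of_mem hψ).2
  -- the isomorphism `e : V ≃* W`
  have hψVm : ψ.comp (Subgroup.inclusion hVN) ∈ F.Hom (Q ⊔ centralizerIn S T) :=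
    restrict_mem F hVN hψ
  have hmemW : ∀ v : ↥(Q ⊔ centralizerIn S T), (ψ.comp (Subgroup.inclusion hVN)) v ∈ W := by
    intro v
    rw [← hψV]
    exact ⟨Subgroup.inclusion hVN v, Subgroup.mem_subgroupOf.2 v.2, rfl⟩
  have hbij : Function.Bijective ((ψ.comp (Subgroup.inclusion hVN)).codRestrict W hmemW) := by
    constructor
    · intro a b hab
      exact F.injective_of_mem hψVm (congrArg Subtype.val hab)
    · rintro ⟨w, hw⟩
      have hw' := hw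
      rw [← hψV] at hw'
      obtain ⟨n, hn, hnw⟩ := hw'
      refine ⟨⟨n.1, Subgroup.mem_subgroupOf.1 hn⟩, Subtype.ext ?_⟩
      show ψ (Subgroup.inclusion hVN ⟨n.1, _⟩) = w
      rw [← hnw]
      congr 1
  obtain ⟨e, he⟩ : ∃ e : ↥(Q ⊔ centralizerIn S T) ≃* ↥W,
      ∀ v, ((e v : ↥W) : Ω) = ψ (Subgroup.inclusion hVN v) :=
    ⟨MulEquiv.ofBijective _ hbij, fun v => rfl⟩
  have heF : W.subtype.comp e.toMonoidHom ∈ F.Hom (Q ⊔ centralizerIn S T) := by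
    have h1 : W.subtype.comp e.toMonoidHom = ψ.comp (Subgroup.inclusion hVN) := by
      ext v
      exact he v
    rw [h1]
    exact hψVm
  have hξ' : MulAut.congr e ξ ∈ F.autGroup W := congr_mem_autGroup' F e heF hξ
  have hξ'a : ∀ w : ↥W, (MulAut.congr e ξ) w = e (ξ (e.symm w)) := fun w => rfl
  -- the inverse of `ψ`
  obtain ⟨θ, hθ, hθinv⟩ := F.inv_mem hψ
  have hpre : ∀ n : ↥(normalizerIn S (Q ⊔ centralizerIn S T)), ψ n ∈ T → (n : Ω) ∈ T := by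
    intro n hn
    have h1 := wnokcext_hom_mem F hT hθ (x := ⟨ψ n, ⟨n, rfl⟩⟩) hn
    rwa [hθinv] at h1
  -- `ξ'` fixes `W ∩ T` elementwise
  have hξ'Y : ∀ y : ↥W, (y : Ω) ∈ T → (MulAut.congr e ξ) y = y := by
    intro y hy
    obtain ⟨v, rfl⟩ := e.surjective y
    have hvT : (v : Ω) ∈ T := hpre (Subgroup.inclusion hVN v) (by rw [← he v]; exact hy)
    have hvQ : (v : Ω) ∈ Q := mem_left_of_mem_sup hQT (tCen_self_le hTS hQ) v.2 hvT
    have hξv : ξ v = v := by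
      have h1 := hfix ⟨v, hvQ⟩
      have e1 : Subgroup.inclusion le_sup_left (⟨(v : Ω), hvQ⟩ : Q) = v := Subtype.ext rfl
      rwa [e1] at h1
    rw [hξ'a, e.symm_apply_apply, hξv]
  -- receptivity of `W`
  have hφ' : W.subtype.comp (MulAut.congr e ξ).toMonoidHom ∈ F.Hom W :=
    (mem_autGroup_iff F hWS _).1 hξ'
  have hrange : (W.subtype.comp (MulAut.congr e ξ).toMonoidHom).range = W := by
    ext y
    constructor
    · rintro ⟨x, rfl⟩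
      exact ((MulAut.congr e ξ) x).2
    · intro hy
      refine ⟨(MulAut.congr e ξ).symm ⟨y, hy⟩, ?_⟩
      show (((MulAut.congr e ξ) ((MulAut.congr e ξ).symm ⟨y, hy⟩) : ↥W) : Ω) = y
      rw [MulEquiv.apply_symm_apply]
  obtain ⟨Ψ, hΨ, hΨe⟩ := hWrec.2 W _ hφ' hrange
  have hWext : W ≤ extender S W (W.subtype.comp (MulAut.congr e ξ).toMonoidHom) :=
    le_extender F hφ'
  -- images of elements of `N_T(Q)` lie in `T`, normalize `W` and lie in the extender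
  have hgT : ∀ (t : Ω) (ht : t ∈ normalizerIn T Q), ψ ⟨t, hV₁N (hA₁ ht)⟩ ∈ T := by
    intro t ht
    exact wnokcext_hom_mem F hT hψ (x := ⟨t, hV₁N (hA₁ ht)⟩) ht.1
  have hgN : ∀ (t : Ω) (ht : t ∈ normalizerIn T Q),
      ψ ⟨t, hV₁N (hA₁ ht)⟩ ∈ Subgroup.normalizer (W : Set Ω) := by
    intro t ht
    have htN := hV₁N (hA₁ ht)
    apply mem_normalizer_of_forall
    · intro w hw
      rw [← hψV] at hw ⊢
      exact wnokcext_conj_map ψ ⟨t, htN⟩ htN.2 w hw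
    · intro w hw
      rw [← hψV] at hw ⊢
      have h1 := wnokcext_conj_map ψ (⟨t, htN⟩⁻¹) (Subgroup.inv_mem _ htN.2) w hw
      rwa [map_inv, inv_inv] at h1
  have hgext : ∀ (t : Ω) (ht : t ∈ normalizerIn T Q), ψ ⟨t, hV₁N (hA₁ ht)⟩ ∈
      extender S W (W.subtype.comp (MulAut.congr e ξ).toMonoidHom) := by
    intro t ht
    have htN := hV₁N (hA₁ ht)
    have hgS : ψ ⟨t, htN⟩ ∈ S := hψS _
    refine mem_extender_of_chain p hS F hWfa (T.subgroupOf W) ?_ _ hξ' ?_ _ hgS (hgN t ht)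
      (W.normalizerMonoidHom ⟨_, hgN t ht⟩) (fun w => rfl) ?_ ?_
    · intro α hα y hy
      exact Subgroup.mem_subgroupOf.2
        (aut_mem_of_stronglyClosed F hT hWS hα (Subgroup.mem_subgroupOf.1 hy))
    · intro y hy
      exact hξ'Y y (Subgroup.mem_subgroupOf.1 hy)
    · intro y hy
      rw [Subgroup.mem_subgroupOf] at hy ⊢
      show ψ ⟨t, htN⟩ * (y : Ω) * (ψ ⟨t, htN⟩)⁻¹ ∈ T
      exact conj_mem_of_stronglyClosed F hT hgS hy
    · intro w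
      rw [Subgroup.mem_subgroupOf]
      show ψ ⟨t, htN⟩ * (w : Ω) * (ψ ⟨t, htN⟩)⁻¹ * (w : Ω)⁻¹ ∈ T
      have h1 : (w : Ω) * (ψ ⟨t, htN⟩)⁻¹ * (w : Ω)⁻¹ ∈ T :=
        conj_mem_of_stronglyClosed F hT (hWS w.2) (T.inv_mem (hgT t ht))
      have h2 := T.mul_mem (hgT t ht) h1
      simpa [mul_assoc] using h2
  -- `ψ(V₁)` lies in the extender
  have hψ₁ : ψ.comp (Subgroup.inclusion hV₁N) ∈ F.Hom (normalizerIn T Q ⊔ centralizerIn S T) :=
    restrict_mem F hV₁N hψ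
  have hKW : ∀ (b : Ω) (hb : b ∈ centralizerIn S T), ψ ⟨b, hV₁N (hB₁ hb)⟩ ∈ W := by
    intro b hb
    rw [← hψV]
    exact ⟨⟨b, hV₁N (hB₁ hb)⟩, Subgroup.mem_subgroupOf.2 (hBV hb), rfl⟩
  have h9 : ∀ z : ↥(normalizerIn T Q ⊔ centralizerIn S T), (ψ.comp (Subgroup.inclusion hV₁N)) z ∈
      extender S W (W.subtype.comp (MulAut.congr e ξ).toMonoidHom) := by
    apply Cfsg.Agent.Helper3.CSE.cseextq_sup_mem
    · intro a ha
      exact hgext a ha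
    · intro b hb
      exact hWext (hKW b hb)
  -- step 10: `Ψ` maps `ψ(V₁)` into `ψ(N)`
  have hΦ₂ : Ψ.comp ((ψ.comp (Subgroup.inclusion hV₁N)).codRestrict _ h9) ∈
      F.Hom (normalizerIn T Q ⊔ centralizerIn S T) := F.comp_mem hψ₁ hΨ h9
  have hWrange : W ≤ ψ.range := by
    rw [← hψV]
    rintro w ⟨n, -, rfl⟩
    exact ⟨n, rfl⟩
  have hQV : Q ≤ Q ⊔ centralizerIn S T := le_sup_left
  have hQN : Q ≤ normalizerIn S (Q ⊔ centralizerIn S T) := hQV.trans hVN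
  have hQ'c : centralizerIn T (ψ.comp (Subgroup.inclusion hQN)).range ≤
      (ψ.comp (Subgroup.inclusion hQN)).range :=
    hQ.2 _ ⟨ψ.comp (Subgroup.inclusion hQN), restrict_mem F hQN hψ, rfl⟩
  have hQ'range : (ψ.comp (Subgroup.inclusion hQN)).range ≤ ψ.range := by
    rintro w ⟨q, rfl⟩
    exact ⟨Subgroup.inclusion hQN q, rfl⟩
  have hΨfix : ∀ (x : Ω) (hxW : x ∈ W) (_ : x ∈ T)
      (hxE : x ∈ extender S W (W.subtype.comp (MulAut.congr e ξ).toMonoidHom)),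
      Ψ ⟨x, hxE⟩ = x := by
    intro x hxW hxT hxE
    rw [hΨe x hxW hxE]
    show (((MulAut.congr e ξ) ⟨x, hxW⟩ : ↥W) : Ω) = x
    rw [hξ'Y ⟨x, hxW⟩ hxT]
  have h10 : ∀ z : ↥(normalizerIn T Q ⊔ centralizerIn S T),
      (Ψ.comp ((ψ.comp (Subgroup.inclusion hV₁N)).codRestrict _ h9)) z ∈ ψ.range := by
    apply Cfsg.Agent.Helper3.CSE.cseextq_sup_mem
    · intro a ha
      have haN := hV₁N (hA₁ ha)
      have hgE := hgext a ha
      have hgTa := hgT a ha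
      have hgS : ψ ⟨a, haN⟩ ∈ S := hψS _
      show Ψ ⟨ψ ⟨a, haN⟩, hgE⟩ ∈ ψ.range
      have hGT : Ψ ⟨ψ ⟨a, haN⟩, hgE⟩ ∈ T :=
        wnokcext_hom_mem F hT hΨ (x := ⟨ψ ⟨a, haN⟩, hgE⟩) hgTa
      have hd : (ψ ⟨a, haN⟩)⁻¹ * Ψ ⟨ψ ⟨a, haN⟩, hgE⟩ ∈
          centralizerIn T (ψ.comp (Subgroup.inclusion hQN)).range := by
        rw [mem_centralizerIn]
        refine ⟨T.mul_mem (T.inv_mem hgTa) hGT, ?_⟩
        rintro q' ⟨q, rfl⟩
        have hq'W : ψ (Subgroup.inclusion hQN q) ∈ W := by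
          rw [← hψV]
          exact ⟨Subgroup.inclusion hQN q, Subgroup.mem_subgroupOf.2 (hQV q.2), rfl⟩
        have hq'T : ψ (Subgroup.inclusion hQN q) ∈ T :=
          wnokcext_hom_mem F hT hψ (x := Subgroup.inclusion hQN q) (hQT q.2)
        have hcW : ψ ⟨a, haN⟩ * ψ (Subgroup.inclusion hQN q) * (ψ ⟨a, haN⟩)⁻¹ ∈ W :=
          (Subgroup.mem_normalizer_iff.1 (hgN a ha) _).1 hq'W
        have hcT : ψ ⟨a, haN⟩ * ψ (Subgroup.inclusion hQN q) * (ψ ⟨a, haN⟩)⁻¹ ∈ T :=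
          conj_mem_of_stronglyClosed F hT hgS hq'T
        have h2 := hΨfix _ hq'W hq'T (hWext hq'W)
        have h1 : Ψ (⟨ψ ⟨a, haN⟩, hgE⟩ * ⟨ψ (Subgroup.inclusion hQN q), hWext hq'W⟩ *
            ⟨ψ ⟨a, haN⟩, hgE⟩⁻¹) =
            ψ ⟨a, haN⟩ * ψ (Subgroup.inclusion hQN q) * (ψ ⟨a, haN⟩)⁻¹ :=
          hΨfix _ hcW hcT (Subgroup.mul_mem _ (Subgroup.mul_mem _ hgE (hWext hq'W))
            (Subgroup.inv_mem _ hgE))
        rw [map_mul, map_mul, map_inv, h2] at h1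
        exact wnokcext_comm h1
      have hdr := hQ'range (hQ'c hd)
      have hgr : ψ ⟨a, haN⟩ ∈ ψ.range := ⟨_, rfl⟩
      have := ψ.range.mul_mem hgr hdr
      rwa [mul_inv_cancel_left] at this
    · intro b hb
      have hbW := hKW b hb
      show Ψ ⟨ψ ⟨b, hV₁N (hB₁ hb)⟩, hWext hbW⟩ ∈ ψ.range
      rw [hΨe _ hbW (hWext hbW)]
      exact hWrange ((MulAut.congr e ξ) ⟨_, hbW⟩).2
  -- step 11: compose with the inverse of `ψ`
  have hΞ := F.comp_mem hΦ₂ hθ h10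
  refine ⟨_, hΞ, ?_⟩
  intro y hy hy'
  have hyW : ψ ⟨y, hV₁N hy'⟩ ∈ W := by
    rw [← hψV]
    exact ⟨⟨y, hV₁N hy'⟩, Subgroup.mem_subgroupOf.2 hy, rfl⟩
  have hey : e ⟨y, hy⟩ = ⟨ψ ⟨y, hV₁N hy'⟩, hyW⟩ := Subtype.ext (he ⟨y, hy⟩)
  have h1 : (Ψ.comp ((ψ.comp (Subgroup.inclusion hV₁N)).codRestrict _ h9)) ⟨y, hy'⟩ =
      ψ (Subgroup.inclusion hVN (ξ ⟨y, hy⟩)) := by
    show Ψ ⟨ψ ⟨y, hV₁N hy'⟩, hWext hyW⟩ = _
    rw [hΨe _ hyW (hWext hyW)]
    show (((MulAut.congr e ξ) ⟨_, hyW⟩ : ↥W) : Ω) = _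
    rw [hξ'a, ← hey, e.symm_apply_apply, he]
  show θ ⟨(Ψ.comp ((ψ.comp (Subgroup.inclusion hV₁N)).codRestrict _ h9)) ⟨y, hy'⟩, h10 ⟨y, hy'⟩⟩ = _
  have h2 : (⟨(Ψ.comp ((ψ.comp (Subgroup.inclusion hV₁N)).codRestrict _ h9)) ⟨y, hy'⟩,
      h10 ⟨y, hy'⟩⟩ : ↥ψ.range) =
      ⟨ψ (Subgroup.inclusion hVN (ξ ⟨y, hy⟩)), ⟨_, rfl⟩⟩ := Subtype.ext h1
  rw [h2, hθinv]
  rfl

end Cfsg.Agent.Helper8.WNO
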