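import Mathlib
import Cfsg.Agent.Lib.WNO.WNODefs

/-!
# S5141 farm (design helper8), piece WNO-POW (SHORT-MEDIUM)
(Mathlib only)
* `exists_pow_coprime`: the `p'`-part of `g` as a power `g ^ j` with `j ≡ 1 [MOD m]` (`m` prime to `p`).
  Write `orderOf g = p ^ a * r`, `¬ p ∣ r` (`Nat.exists_eq_pow_mul_and_not_dvd`, `orderOf_pos`); CRT
  (`Nat.chineseRemainder`, `p ^ a` and `m` coprime) gives `j ≡ 0 [MOD p ^ a]`, `j ≡ 1 [MOD m]`;
  `(g ^ j) ^ r = 1` so `orderOf (g ^ j) ∣ r`, prime to `p`; and `p ^ k ∣ orderOf g` forces `k ≤ a`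
  (else `p ∣ r`), so `p ^ k ∣ p ^ a ∣ j`.
* `pow_apply_comm`: trivial induction on `j` (`pow_succ`, `MulAut.mul_apply`).
Keep statements, names, namespace exactly; you may add imports; aux names with prefix `wnopow_`.
-/

set_option autoImplicit false

namespace Cfsg.Agent.Helper8.WNO

open Cfsg Cfsg.FusionSystem Cfsg.Agent.Helper25

variable {Ω : Type*} [Group Ω] {S : Subgroup Ω}

theorem exists_pow_coprime {G : Type*} [Group G] [Finite G] (g : G) (p : ℕ) [Fact p.Prime]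
    (m : ℕ) (hm : m.Coprime p) :
    ∃ j : ℕ, j ≡ 1 [MOD m] ∧ (orderOf (g ^ j)).Coprime p ∧
      ∀ k : ℕ, p ^ k ∣ orderOf g → p ^ k ∣ j := by
  have hp : p.Prime := Fact.out
  have ho : orderOf g ≠ 0 := (orderOf_pos g).ne'
  obtain ⟨a, r, hr, har⟩ := Nat.exists_eq_pow_mul_and_not_dvd ho p hp.ne_one
  have hrp : Nat.Coprime r p := ((Nat.Prime.coprime_iff_not_dvd hp).mpr hr).symm
  have hco : Nat.Coprime (p ^ a) m := (Nat.Coprime.pow_right a hm).symm
  obtain ⟨j, hj0, hj1⟩ := Nat.chineseRemainder hco 0 1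
  have hdvd : p ^ a ∣ j := (Nat.modEq_zero_iff_dvd).mp hj0
  refine ⟨j, hj1, ?_, ?_⟩
  · have h1 : orderOf (g ^ j) ∣ r := by
      apply orderOf_dvd_of_pow_eq_one
      obtain ⟨c, rfl⟩ := hdvd
      rw [← pow_mul]
      have e : p ^ a * c * r = orderOf g * c := by rw [har]; ring
      rw [e, pow_mul, pow_orderOf_eq_one, one_pow]
    exact Nat.Coprime.coprime_dvd_left h1 hrp
  · intro k hk
    rw [har] at hk
    have hkr : Nat.Coprime (p ^ k) r := (Nat.Coprime.pow_right k hrp).symm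
    exact (hkr.dvd_of_dvd_mul_right hk).trans hdvd

theorem pow_apply_comm {A B : Type*} [Group A] [Group B] (α : MulAut A) (β : MulAut B) (f : A → B)
    (h : ∀ a : A, β (f a) = f (α a)) (j : ℕ) (a : A) : (β ^ j) (f a) = f ((α ^ j) a) := by
  induction j generalizing a with
  | zero => simp
  | succ j ih =>
    rw [pow_succ', pow_succ', MulAut.mul_apply, MulAut.mul_apply, ih, h]

end Cfsg.Agent.Helper8.WNO
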