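import Mathlib
import Cfsg.Agent.Lib.WNO.WNODefs
import Cfsg.Agent.Lib.WNO.WNOTCen
import Cfsg.Agent.Lib.WNO.WNOPow
import Cfsg.Agent.Lib.WNO.WNOKcExt

/-!
# S5141 farm (design helper8), piece WNO-KCSTEP (MEDIUM-LONG)

Same setting as `kc_ext`, and `ξ` of order prime to `p`.  Then some `ξ₁ ∈ Aut_F(N_T(Q) ⊔ K)` of order prime to `p`
fixes `N_T(Q)` elementwise and agrees with `ξ` on `K`.

`kc_ext` gives `Ξ ∈ F.Hom V₁`, `V₁ := N_T(Q) ⊔ K`, extending `ξ`.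
* for `t ∈ N_T(Q)`: `Ξ t ∈ T` (strong closure) and `z := t⁻¹ * Ξ t ∈ centralizerIn T Q ≤ Q`.
  Hence `Ξ t = t * z ∈ N_T(Q)`; and `Ξ c = ξ c ∈ V ≤ V₁` for `c ∈ K`.  So `Ξ` maps `V₁` into `V₁`;
  injective + finite gives `Ξ₀ : MulAut V₁` in `F.autGroup V₁`.
* `Ξ₀ ^ n` is `ξ ^ n` on `V` (`pow_apply_comm`), and `(Ξ₀ ^ n) t = t * z ^ n`, so
  `Ξ₀ ^ n` fixes `N_T(Q)` elementwise as soon as `Nat.card S ∣ n`.
* CRT gives `j ≡ 0 [MOD Nat.card S]`, `j ≡ 1 [MOD orderOf ξ]`.  `ξ₁ := Ξ₀ ^ j`.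
Aux names with prefix `wnokcstep_`.
-/

set_option autoImplicit false

namespace Cfsg.Agent.Helper8.WNO

open Cfsg Cfsg.FusionSystem Cfsg.Agent.Helper25 Cfsg.Agent.Helper3

variable {Ω : Type*} [Group Ω] {S : Subgroup Ω}

theorem wnokcstep_forall_sup {A B : Subgroup Ω} (H : Subgroup ↥(A ⊔ B))
    (hA : ∀ a : A, Subgroup.inclusion (le_sup_left : A ≤ A ⊔ B) a ∈ H)
    (hB : ∀ b : B, Subgroup.inclusion (le_sup_right : B ≤ A ⊔ B) b ∈ H) (v : ↥(A ⊔ B)) :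
    v ∈ H := by
  have htop : A.subgroupOf (A ⊔ B) ⊔ B.subgroupOf (A ⊔ B) = ⊤ :=
    codisjoint_iff.mp (Subgroup.codisjoint_subgroupOf_sup A B)
  have hle : A.subgroupOf (A ⊔ B) ⊔ B.subgroupOf (A ⊔ B) ≤ H := by
    apply sup_le
    · intro z hz
      rw [Subgroup.mem_subgroupOf] at hz
      have e : z = Subgroup.inclusion le_sup_left ⟨z.1, hz⟩ := Subtype.ext rfl
      rw [e]
      exact hA _
    · intro z hz
      rw [Subgroup.mem_subgroupOf] at hz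
      have e : z = Subgroup.inclusion le_sup_right ⟨z.1, hz⟩ := Subtype.ext rfl
      rw [e]
      exact hB _
  have hv : v ∈ (⊤ : Subgroup ↥(A ⊔ B)) := Subgroup.mem_top v
  rw [← htop] at hv
  exact hle hv

theorem wnokcstep_pow_apply {U : Type*} [Group U] (γ : MulAut U) {x c : U} (hx : γ x = x * c)
    (hc : γ c = c) (k : ℕ) : (γ ^ k) x = x * c ^ k := by
  induction k with
  | zero => simp
  | succ k ih =>
    rw [pow_succ', MulAut.mul_apply, ih, map_mul, map_pow, hx, hc, mul_assoc, ← pow_succ']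

theorem kc_step [Finite S] (p : ℕ) [Fact p.Prime] (hS : IsPGroup p S) (F : FusionSystem S)
    (hF : F.IsSaturated p) {T Q : Subgroup Ω} (hT : F.StronglyClosed T) (hQ : TCen F T Q)
    (ξ : MulAut ↥(Q ⊔ centralizerIn S T)) (hξ : ξ ∈ F.autGroup (Q ⊔ centralizerIn S T))
    (hfix : FixL Q (centralizerIn S T) ξ) (hco : (orderOf ξ).Coprime p) :
    ∃ ξ₁ : MulAut ↥(normalizerIn T Q ⊔ centralizerIn S T),
      ξ₁ ∈ F.autGroup (normalizerIn T Q ⊔ centralizerIn S T) ∧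
      FixL (normalizerIn T Q) (centralizerIn S T) ξ₁ ∧ (orderOf ξ₁).Coprime p ∧
      ∀ c : centralizerIn S T,
        ((ξ₁ (Subgroup.inclusion le_sup_right c) : ↥(normalizerIn T Q ⊔ centralizerIn S T)) : Ω) =
          ((ξ (Subgroup.inclusion le_sup_right c) : ↥(Q ⊔ centralizerIn S T)) : Ω) := by
  classical
  have hTS : T ≤ S := hT.1
  have hQT : Q ≤ T := hQ.1
  have hQN : Q ≤ normalizerIn T Q := le_normalizerIn hQT
  have hNT : normalizerIn T Q ≤ T := normalizerIn_le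
  have hKS : centralizerIn S T ≤ S := centralizerIn_le
  have hV₁S : normalizerIn T Q ⊔ centralizerIn S T ≤ S := sup_le (hNT.trans hTS) hKS
  have hVV₁ : Q ⊔ centralizerIn S T ≤ normalizerIn T Q ⊔ centralizerIn S T :=
    sup_le_sup_right hQN _
  have hNV₁ : normalizerIn T Q ≤ normalizerIn T Q ⊔ centralizerIn S T := le_sup_left
  have hQV : Q ≤ Q ⊔ centralizerIn S T := le_sup_left
  haveI : Finite ↥(normalizerIn T Q ⊔ centralizerIn S T) :=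
    Finite.of_injective (Subgroup.inclusion hV₁S) (Subgroup.inclusion_injective hV₁S)
  obtain ⟨Ξ, hΞ, hΞξ⟩ := kc_ext p hS F hF hT hQ ξ hξ hfix
  have hcenQ : centralizerIn T Q ≤ Q := tCen_self_le hTS hQ
  -- Ξ is the identity on Q
  have hΞQ : ∀ (y : Ω) (hy : y ∈ Q), Ξ ⟨y, hVV₁ (hQV hy)⟩ = y := by
    intro y hy
    rw [hΞξ y (hQV hy)]
    have h1 := hfix ⟨y, hy⟩
    have h2 := congrArg (fun w : ↥(Q ⊔ centralizerIn S T) => (w : Ω)) h1
    exact h2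
  -- Ξ maps N_T(Q) into T
  have hΞT : ∀ (t : Ω) (ht : t ∈ normalizerIn T Q), Ξ ⟨t, hNV₁ ht⟩ ∈ T := by
    intro t ht
    have h1 := restrict_mem F hNV₁ hΞ
    exact hT.2 (normalizerIn T Q) hNT _ h1 ⟨t, ht⟩
  -- z := t⁻¹ Ξ t ∈ Q
  have hz : ∀ (t : Ω) (ht : t ∈ normalizerIn T Q), t⁻¹ * Ξ ⟨t, hNV₁ ht⟩ ∈ Q := by
    intro t ht
    apply hcenQ
    rw [mem_centralizerIn]
    refine ⟨T.mul_mem (T.inv_mem (hNT ht)) (hΞT t ht), ?_⟩
    intro y hy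
    have htn : t ∈ Subgroup.normalizer (Q : Set Ω) := (mem_normalizerIn.mp ht).2
    have hty : t * y * t⁻¹ ∈ Q := (Subgroup.mem_normalizer_iff.mp htn y).mp hy
    have hconj : t * y * t⁻¹ = Ξ ⟨t, hNV₁ ht⟩ * y * (Ξ ⟨t, hNV₁ ht⟩)⁻¹ := by
      have e1 : (⟨t * y * t⁻¹, hVV₁ (hQV hty)⟩ : ↥(normalizerIn T Q ⊔ centralizerIn S T))
          = ⟨t, hNV₁ ht⟩ * ⟨y, hVV₁ (hQV hy)⟩ * (⟨t, hNV₁ ht⟩)⁻¹ := Subtype.ext rfl
      have e2 := hΞQ _ hty
      rw [e1, map_mul, map_mul, map_inv, hΞQ y hy] at e2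
      exact e2.symm
    calc y * (t⁻¹ * Ξ ⟨t, hNV₁ ht⟩)
        = t⁻¹ * (t * y * t⁻¹) * Ξ ⟨t, hNV₁ ht⟩ := by group
      _ = t⁻¹ * (Ξ ⟨t, hNV₁ ht⟩ * y * (Ξ ⟨t, hNV₁ ht⟩)⁻¹) * Ξ ⟨t, hNV₁ ht⟩ := by rw [hconj]
      _ = t⁻¹ * Ξ ⟨t, hNV₁ ht⟩ * y := by group
  -- Ξ maps V₁ into V₁
  have hΞV₁ : ∀ v : ↥(normalizerIn T Q ⊔ centralizerIn S T),
      Ξ v ∈ normalizerIn T Q ⊔ centralizerIn S T := by
    intro v
    have h0 := wnokcstep_forall_sup ((normalizerIn T Q ⊔ centralizerIn S T).comap Ξ) ?_ ?_ v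
    · exact h0
    · intro a
      rw [Subgroup.mem_comap]
      have hza := hz a.1 a.2
      have e : Ξ (Subgroup.inclusion le_sup_left a)
          = (a : Ω) * ((a : Ω)⁻¹ * Ξ ⟨(a : Ω), hNV₁ a.2⟩) := by
        rw [mul_inv_cancel_left]
        rfl
      rw [e]
      exact Subgroup.mul_mem _ (hNV₁ a.2) (hNV₁ (hQN hza))
    · intro b
      rw [Subgroup.mem_comap]
      have hbV : (b : Ω) ∈ Q ⊔ centralizerIn S T :=
        (le_sup_right : centralizerIn S T ≤ Q ⊔ centralizerIn S T) b.2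
      have e : Ξ (Subgroup.inclusion le_sup_right b)
          = ((ξ ⟨(b : Ω), hbV⟩ : ↥(Q ⊔ centralizerIn S T)) : Ω) := hΞξ b.1 hbV _
      rw [e]
      exact hVV₁ (ξ _).2
  -- the automorphism Ξ₀ of V₁
  have hΞc_inj : Function.Injective (Ξ.codRestrict (normalizerIn T Q ⊔ centralizerIn S T) hΞV₁) := by
    intro a b hab
    apply F.injective_of_mem hΞ
    have h2 := congrArg (fun w : ↥(normalizerIn T Q ⊔ centralizerIn S T) => (w : Ω)) hab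
    exact h2
  have hΞc_bij : Function.Bijective (Ξ.codRestrict (normalizerIn T Q ⊔ centralizerIn S T) hΞV₁) :=
    ⟨hΞc_inj, Finite.injective_iff_surjective.mp hΞc_inj⟩
  obtain ⟨Ξ₀, hΞ₀_apply⟩ : ∃ Ξ₀ : MulAut ↥(normalizerIn T Q ⊔ centralizerIn S T),
      ∀ v, ((Ξ₀ v : ↥(normalizerIn T Q ⊔ centralizerIn S T)) : Ω) = Ξ v :=
    ⟨MulEquiv.ofBijective (Ξ.codRestrict (normalizerIn T Q ⊔ centralizerIn S T) hΞV₁) hΞc_bij,
      fun v => rfl⟩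
  have hΞ₀mem : Ξ₀ ∈ F.autGroup (normalizerIn T Q ⊔ centralizerIn S T) := by
    rw [mem_autGroup_iff F hV₁S]
    have e : (normalizerIn T Q ⊔ centralizerIn S T).subtype.comp Ξ₀.toMonoidHom = Ξ := by
      ext v
      exact hΞ₀_apply v
    rw [e]
    exact hΞ
  -- Ξ₀ on V
  have hΞ₀V : ∀ v : ↥(Q ⊔ centralizerIn S T),
      Ξ₀ (Subgroup.inclusion hVV₁ v) = Subgroup.inclusion hVV₁ (ξ v) := by
    intro v
    apply Subtype.ext
    rw [hΞ₀_apply]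
    exact hΞξ v.1 v.2 _
  have hpowV : ∀ (j : ℕ) (v : ↥(Q ⊔ centralizerIn S T)),
      (Ξ₀ ^ j) (Subgroup.inclusion hVV₁ v) = Subgroup.inclusion hVV₁ ((ξ ^ j) v) :=
    fun j v => pow_apply_comm ξ Ξ₀ (Subgroup.inclusion hVV₁) hΞ₀V j v
  -- Ξ₀ on N_T(Q)
  have hpowN : ∀ (j : ℕ), Nat.card S ∣ j → ∀ t : normalizerIn T Q,
      (Ξ₀ ^ j) (Subgroup.inclusion hNV₁ t) = Subgroup.inclusion hNV₁ t := by
    intro j hj t
    have hzt := hz t.1 t.2
    obtain ⟨zz, hzz⟩ : ∃ zz : ↥(normalizerIn T Q ⊔ centralizerIn S T),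
        (zz : Ω) = (t : Ω)⁻¹ * Ξ ⟨(t : Ω), hNV₁ t.2⟩ := ⟨⟨_, hNV₁ (hQN hzt)⟩, rfl⟩
    have hx : Ξ₀ (Subgroup.inclusion hNV₁ t) = Subgroup.inclusion hNV₁ t * zz := by
      apply Subtype.ext
      rw [hΞ₀_apply, Subgroup.coe_mul, hzz]
      show Ξ _ = (t : Ω) * ((t : Ω)⁻¹ * Ξ _)
      rw [mul_inv_cancel_left]
      rfl
    have hc : Ξ₀ zz = zz := by
      apply Subtype.ext
      rw [hΞ₀_apply]
      have h3 := hΞQ _ hzt
      have e : zz = ⟨(t : Ω)⁻¹ * Ξ ⟨(t : Ω), hNV₁ t.2⟩, hVV₁ (hQV hzt)⟩ := Subtype.ext hzz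
      rw [e]
      exact h3
    rw [wnokcstep_pow_apply Ξ₀ hx hc j]
    have hzj : zz ^ j = 1 := by
      obtain ⟨d, rfl⟩ := hj
      have h1 : (⟨(zz : Ω), hV₁S zz.2⟩ : S) ^ Nat.card S = 1 := pow_card_eq_one'
      have h2 : (zz : Ω) ^ Nat.card S = 1 := by
        have h4 : (((⟨(zz : Ω), hV₁S zz.2⟩ : S) ^ Nat.card S : S) : Ω) = ((1 : S) : Ω) := by
          rw [h1]
        rw [SubgroupClass.coe_pow, Subgroup.coe_one] at h4
        exact h4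
      apply Subtype.ext
      rw [SubgroupClass.coe_pow, pow_mul, h2, one_pow]
      rfl
    rw [hzj, mul_one]
  -- the exponent
  obtain ⟨k, hk⟩ := hS.exists_card_eq
  have hcop : Nat.Coprime (Nat.card S) (orderOf ξ) := by
    rw [hk]
    exact Nat.Coprime.pow_left k hco.symm
  obtain ⟨j, hj0, hj1⟩ := Nat.chineseRemainder hcop 0 1
  have hjS : Nat.card S ∣ j := (Nat.modEq_zero_iff_dvd).mp hj0
  have hξj : ξ ^ j = ξ := by
    have h5 : ξ ^ j = ξ ^ 1 := (pow_eq_pow_iff_modEq (x := ξ)).mpr hj1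
    rwa [pow_one] at h5
  refine ⟨Ξ₀ ^ j, Subgroup.pow_mem _ hΞ₀mem j, ?_, ?_, ?_⟩
  · intro t
    exact hpowN j hjS t
  · have hone : (Ξ₀ ^ j) ^ orderOf ξ = 1 := by
      rw [← pow_mul]
      apply MulEquiv.ext
      intro v
      have h0 := wnokcstep_forall_sup
        (MonoidHom.eqLocus (Ξ₀ ^ (j * orderOf ξ)).toMonoidHom (MonoidHom.id _)) ?_ ?_ v
      · exact h0
      · intro t
        exact hpowN _ (Dvd.dvd.mul_right hjS _) t
      · intro c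
        show (Ξ₀ ^ (j * orderOf ξ)) (Subgroup.inclusion le_sup_right c)
          = Subgroup.inclusion le_sup_right c
        have e : (Subgroup.inclusion le_sup_right c : ↥(normalizerIn T Q ⊔ centralizerIn S T))
            = Subgroup.inclusion hVV₁ (Subgroup.inclusion le_sup_right c) := rfl
        rw [e, hpowV, mul_comm, pow_mul, pow_orderOf_eq_one, one_pow]
        rfl
    exact Nat.Coprime.coprime_dvd_left (orderOf_dvd_of_pow_eq_one hone) hco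
  · intro c
    have e : (Subgroup.inclusion le_sup_right c : ↥(normalizerIn T Q ⊔ centralizerIn S T))
        = Subgroup.inclusion hVV₁ (Subgroup.inclusion le_sup_right c) := rfl
    rw [e, hpowV, hξj]
    rfl

end Cfsg.Agent.Helper8.WNO
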