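import Mathlib
import Cfsg.Agent.Lib.WNO.WNODefs
import Cfsg.Agent.Lib.WNO.WNOTCen
import Cfsg.Agent.Lib.WNO.WNOKcStep
import Cfsg.Agent.Lib.CSE.CSEBasic

/-!
# S5141 farm (design helper8), piece WNO-KCTOP (MEDIUM)

Iterate `kc_step` up the normalizer tower `Q < N_T(Q) < ... < T`.
Strong induction on `Nat.card T - Nat.card Q` (generalizing `Q`, `ξ`): if `Q = T` (`obtain rfl`), take `ζ := ξ`.
Otherwise `Nat.card Q < Nat.card (normalizerIn T Q)` (`Helper3.CSE.card_lt_normalizerIn`, `T` is a finite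
`p`-group as `T ≤ S`), `normalizerIn T Q ≤ T` is `TCen` (`tCen_of_le`), `kc_step` gives `ξ₁` on
`normalizerIn T Q ⊔ K` agreeing with `ξ` on `K`; apply the induction hypothesis to `ξ₁`.
Keep statement, name, namespace exactly; you may add imports; aux names with prefix `wnokctop_`.
-/

set_option autoImplicit false

namespace Cfsg.Agent.Helper8.WNO

open Cfsg Cfsg.FusionSystem Cfsg.Agent.Helper25 Cfsg.Agent.Helper3

variable {Ω : Type*} [Group Ω] {S : Subgroup Ω}

theorem kc_top [Finite S] (p : ℕ) [Fact p.Prime] (hS : IsPGroup p S) (F : FusionSystem S)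
    (hF : F.IsSaturated p) {T Q : Subgroup Ω} (hT : F.StronglyClosed T) (hQ : TCen F T Q)
    (ξ : MulAut ↥(Q ⊔ centralizerIn S T)) (hξ : ξ ∈ F.autGroup (Q ⊔ centralizerIn S T))
    (hfix : FixL Q (centralizerIn S T) ξ) (hco : (orderOf ξ).Coprime p) :
    ∃ ζ : MulAut ↥(T ⊔ centralizerIn S T),
      ζ ∈ F.autGroup (T ⊔ centralizerIn S T) ∧ FixL T (centralizerIn S T) ζ ∧
      ∀ c : centralizerIn S T,
        ((ζ (Subgroup.inclusion le_sup_right c) : ↥(T ⊔ centralizerIn S T)) : Ω) =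
          ((ξ (Subgroup.inclusion le_sup_right c) : ↥(Q ⊔ centralizerIn S T)) : Ω) := by
  have hTfin : Finite T :=
    Finite.of_injective (Subgroup.inclusion hT.1) (Subgroup.inclusion_injective _)
  have hTp : IsPGroup p T := hS.to_le hT.1
  have key : ∀ n : ℕ, ∀ (Q : Subgroup Ω) (_ : TCen F T Q)
      (ξ : MulAut ↥(Q ⊔ centralizerIn S T)),
      ξ ∈ F.autGroup (Q ⊔ centralizerIn S T) → FixL Q (centralizerIn S T) ξ →
      (orderOf ξ).Coprime p → Nat.card T - Nat.card Q = n →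
      ∃ ζ : MulAut ↥(T ⊔ centralizerIn S T),
        ζ ∈ F.autGroup (T ⊔ centralizerIn S T) ∧ FixL T (centralizerIn S T) ζ ∧
        ∀ c : centralizerIn S T,
          ((ζ (Subgroup.inclusion le_sup_right c) : ↥(T ⊔ centralizerIn S T)) : Ω) =
            ((ξ (Subgroup.inclusion le_sup_right c) : ↥(Q ⊔ centralizerIn S T)) : Ω) := by
    intro n
    induction n using Nat.strong_induction_on with
    | _ n ih =>
      intro Q hQ ξ hξ hfix hco hn
      by_cases hQT : Q = T
      · subst hQT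
        exact ⟨ξ, hξ, hfix, fun c => rfl⟩
      · have hlt := CSE.card_lt_normalizerIn p hTp hQ.1 hQT
        have hle : Nat.card (normalizerIn T Q) ≤ Nat.card T :=
          Subgroup.card_le_of_le normalizerIn_le
        have hN : TCen F T (normalizerIn T Q) :=
          tCen_of_le hQ (le_normalizerIn hQ.1) normalizerIn_le
        obtain ⟨ξ₁, hξ₁, hfix₁, hco₁, hag⟩ := kc_step p hS F hF hT hQ ξ hξ hfix hco
        obtain ⟨ζ, hζ, hζfix, hζag⟩ := ih (Nat.card T - Nat.card (normalizerIn T Q))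
          (by omega) (normalizerIn T Q) hN ξ₁ hξ₁ hfix₁ hco₁ rfl
        exact ⟨ζ, hζ, hζfix, fun c => (hζag c).trans (hag c)⟩
  exact key _ Q hQ ξ hξ hfix hco rfl

end Cfsg.Agent.Helper8.WNO
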