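import Mathlib
import Cfsg.Agent.Lib.WNO.WNODefs
import Cfsg.Agent.Lib.WNO.WNOPow
import Cfsg.Agent.Lib.CSE.CSEExtQ
import Cfsg.Agent.Lib.Helper25.FusionSat3
import Cfsg.Agent.Lib.Helper16.PPowNormal3

/-!
# S5141 farm (design helper8), piece WNO-RLIFT (SHORT-MEDIUM)

`T` strongly closed in the saturated `F`, `K := centralizerIn S T`.
* `aut_cen_mem`: every `βh ∈ Aut_F(T ⊔ K)` maps `K` into `K`.  Proof: `βh c ∈ S` (`F.le_of_mem` after
  `Helper25.mem_autGroup_iff`); for `t ∈ T`, `βh⁻¹ t =: t'` lies in `T` (strong closure `hT.2` applied to the map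
  of `F` given by `βh⁻¹ ∈ F.autGroup _` restricted to `T`, `Helper25.restrict_mem`), `c` commutes with `t'`, so
  `βh c` commutes with `βh t' = t`; `Helper25.mem_centralizerIn`.
* `exists_pprime_lift`: `β ∈ Aut_F(T)` of order prime to `p` lifts to some `βh ∈ Aut_F(T ⊔ K)` of order prime to `p`.
  Proof: `T` is fully normalized (`Helper16.isFullyNormalized_of_stronglyClosed`, check its namespace in
  `Lib/Helper16/PPowNormal3.lean`), hence receptive (`Helper25.of_fullyNormalized`);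
  `Helper3.CSE.exists_ext_rc` gives a lift `β₀`; `exists_pow_coprime β₀ p (orderOf β) hco` gives `j`;
  `βh := β₀ ^ j`; `(β₀ ^ j) (incl x) = incl ((β ^ j) x)` by `pow_apply_comm`-style induction and
  `β ^ j = β` since `j ≡ 1 [MOD orderOf β]` (`pow_eq_pow_iff_modEq`).
Keep statements, names, namespace exactly; you may add imports; aux names with prefix `wnorlift_`.
-/

set_option autoImplicit false

namespace Cfsg.Agent.Helper8.WNO

open Cfsg Cfsg.FusionSystem Cfsg.Agent.Helper25 Cfsg.Agent.Helper3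

variable {Ω : Type*} [Group Ω] {S : Subgroup Ω}

theorem aut_cen_mem (F : FusionSystem S) {T : Subgroup Ω} (hT : F.StronglyClosed T)
    (βh : MulAut ↥(T ⊔ centralizerIn S T)) (hβh : βh ∈ F.autGroup (T ⊔ centralizerIn S T))
    (c : centralizerIn S T) :
    ((βh (Subgroup.inclusion le_sup_right c) : ↥(T ⊔ centralizerIn S T)) : Ω) ∈ centralizerIn S T := by
  have hCS : centralizerIn S T ≤ S := fun g hg => (mem_centralizerIn.1 hg).1
  have hQS : T ⊔ centralizerIn S T ≤ S := sup_le hT.1 hCS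
  have hφ : (T ⊔ centralizerIn S T).subtype.comp βh.toMonoidHom ∈ F.Hom (T ⊔ centralizerIn S T) :=
    (mem_autGroup_iff F hQS βh).mp hβh
  have hψ : (T ⊔ centralizerIn S T).subtype.comp (βh⁻¹ : MulAut _).toMonoidHom ∈
      F.Hom (T ⊔ centralizerIn S T) := (mem_autGroup_iff F hQS βh⁻¹).mp (inv_mem hβh)
  rw [mem_centralizerIn]
  refine ⟨(F.le_of_mem hφ).2 _, fun t ht => ?_⟩
  -- `t' = βh⁻¹ t ∈ T`
  have ht' : ((βh⁻¹ (Subgroup.inclusion le_sup_left ⟨t, ht⟩) : ↥(T ⊔ centralizerIn S T)) : Ω) ∈ T :=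
    hT.2 T le_rfl _ (restrict_mem F le_sup_left hψ) ⟨t, ht⟩
  have hcomm : ((βh⁻¹ (Subgroup.inclusion le_sup_left ⟨t, ht⟩) : ↥(T ⊔ centralizerIn S T)) : Ω) *
      (c : Ω) = (c : Ω) *
      ((βh⁻¹ (Subgroup.inclusion le_sup_left ⟨t, ht⟩) : ↥(T ⊔ centralizerIn S T)) : Ω) :=
    (mem_centralizerIn.1 c.2).2 _ ht'
  have hcommQ : βh⁻¹ (Subgroup.inclusion le_sup_left ⟨t, ht⟩) * Subgroup.inclusion le_sup_right c =
      Subgroup.inclusion le_sup_right c * βh⁻¹ (Subgroup.inclusion le_sup_left ⟨t, ht⟩) :=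
    Subtype.ext hcomm
  have h2 := congrArg βh hcommQ
  rw [map_mul, map_mul, MulAut.apply_inv_self] at h2
  exact congrArg Subtype.val h2

theorem exists_pprime_lift [Finite S] (p : ℕ) [Fact p.Prime] (hS : IsPGroup p S) (F : FusionSystem S)
    (hF : F.IsSaturated p) {T : Subgroup Ω} (hT : F.StronglyClosed T)
    (β : MulAut T) (hβ : β ∈ F.autGroup T) (hco : (orderOf β).Coprime p) :
    ∃ βh : MulAut ↥(T ⊔ centralizerIn S T), βh ∈ F.autGroup (T ⊔ centralizerIn S T) ∧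
      (orderOf βh).Coprime p ∧
      ∀ x : T, ((βh (Subgroup.inclusion le_sup_left x) : ↥(T ⊔ centralizerIn S T)) : Ω) = ((β x : T) : Ω) := by
  have hCS : centralizerIn S T ≤ S := fun g hg => (mem_centralizerIn.1 hg).1
  have hQS : T ⊔ centralizerIn S T ≤ S := sup_le hT.1 hCS
  have hQfin : Finite ↥(T ⊔ centralizerIn S T) :=
    Finite.of_injective (Subgroup.inclusion hQS) (Subgroup.inclusion_injective hQS)
  have hfn := Cfsg.Agent.Helper16.PPowNormal.isFullyNormalized_of_stronglyClosed F hT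
  obtain ⟨-, -, hrec⟩ := of_fullyNormalized p hS F hF hfn
  obtain ⟨β₀, hβ₀, hβ₀v⟩ := Cfsg.Agent.Helper3.CSE.exists_ext_rc F hrec β hβ
  obtain ⟨j, hj1, hjco, -⟩ := exists_pow_coprime β₀ p (orderOf β) hco
  refine ⟨β₀ ^ j, Subgroup.pow_mem _ hβ₀ j, hjco, fun x => ?_⟩
  have hstep : ∀ a : T, β₀ (Subgroup.inclusion le_sup_left a) = Subgroup.inclusion le_sup_left (β a) :=
    fun a => Subtype.ext (hβ₀v a)
  have h1 := pow_apply_comm β β₀ (fun a : T => (Subgroup.inclusion le_sup_left a :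
    ↥(T ⊔ centralizerIn S T))) hstep j x
  have h2 : β ^ j = β := by
    have h3 : β ^ j = β ^ 1 := pow_eq_pow_iff_modEq.mpr hj1
    rwa [pow_one] at h3
  rw [h2] at h1
  exact congrArg Subtype.val h1

end Cfsg.Agent.Helper8.WNO
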