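import Mathlib
import Cfsg.Agent.Lib.WNO.WNODefs
import Cfsg.Agent.Lib.WNO.WNOTCen
import Cfsg.Agent.Lib.WNO.WNORLift
import Cfsg.Agent.Lib.Helper25.FusionProduct3

/-!
# S5141 farm (design helper8), piece WNO-RKAP (MEDIUM-LONG)

`T` strongly closed in `F`, `K := centralizerIn S T`, `Q` a `TCen` subgroup, `βh ∈ Aut_F(T ⊔ K)`, and the
restriction `φ` of `βh` to `Q` is `Good` (lift `φh` on `Q ⊔ K` with `c⁻¹ * φh c ∈ T`).
Then `κ := βh⁻¹ ∘ φh` is an automorphism of `Q ⊔ K` in `F`, fixing `Q` elementwise, with `βh (κ c) ∈ c T`.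

Recipe.  Unfold `Good`: `φh ∈ F.Hom (Q ⊔ K)`, `φh (incl x) = φ x = βh x` on `Q`, `c⁻¹ * φh c ∈ T`.
* `Q' := βh(Q)` (as a subgroup of `Ω`, inside `T` by strong closure) is `F`-conjugate to `Q`
  (the map `φ ∈ F.Hom Q`: restriction of `βh`, `Helper25.mem_autGroup_iff`, `Helper25.restrict_mem`).
* for `c ∈ K`: `t := c⁻¹ * φh c ∈ T` centralizes `Q'` (`c` centralizes `T ⊇ Q'`; `φh c` centralizes
  `φh(Q) = Q'` since `c` centralizes `Q`), so `t ∈ centralizerIn T Q' ≤ Q'` (`hQ.2`), `t = βh q`, `q ∈ Q`.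
  With `c' := βh⁻¹ c ∈ K` (`aut_cen_mem` for `βh⁻¹`): `φh c = βh (c' * q)`, `c' * q ∈ Q ⊔ K`.
* hence `φh` maps `Q ⊔ K` into `βh(Q ⊔ K)` (`Helper3.CSE.cseextq_sup_mem` with `D := (Q ⊔ K).map ..`), and
  `κ₀ v := βh⁻¹ (φh v)` is an injective endomorphism of the finite group `Q ⊔ K`, so a `MulAut`
  (`MulEquiv.ofBijective`, `Finite.injective_iff_bijective`); `κ ∈ F.autGroup (Q ⊔ K)` since
  `incl ∘ κ = (βh⁻¹ as a map of F on T ⊔ K) ∘ φh` (`F.comp_mem`, `Helper25.mem_autGroup_iff`).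
* `FixL`: `κ q = βh⁻¹ (βh q) = q`.  Last clause: `βh (κ c) = φh c`.
Keep statement, name, namespace exactly; you may add imports; aux names with prefix `wnorkap_`.
-/

set_option autoImplicit false

namespace Cfsg.Agent.Helper8.WNO

open Cfsg Cfsg.FusionSystem Cfsg.Agent.Helper25 Cfsg.Agent.Helper3

variable {Ω : Type*} [Group Ω] {S : Subgroup Ω}

theorem exists_kappa [Finite S] (F : FusionSystem S) {T Q : Subgroup Ω} (hT : F.StronglyClosed T)
    (hQ : TCen F T Q)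
    (βh : MulAut ↥(T ⊔ centralizerIn S T)) (hβh : βh ∈ F.autGroup (T ⊔ centralizerIn S T))
    (φ : Q →* Ω)
    (hφ : ∀ x : Q, φ x =
      ((βh (Subgroup.inclusion (hQ.1.trans le_sup_left) x) : ↥(T ⊔ centralizerIn S T)) : Ω))
    (hgood : Good F T Q φ) :
    ∃ κ : MulAut ↥(Q ⊔ centralizerIn S T), κ ∈ F.autGroup (Q ⊔ centralizerIn S T) ∧
      FixL Q (centralizerIn S T) κ ∧
      ∀ c : centralizerIn S T, (c : Ω)⁻¹ *
        ((βh (Subgroup.inclusion (sup_le_sup_right hQ.1 _) (κ (Subgroup.inclusion le_sup_right c))) :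
          ↥(T ⊔ centralizerIn S T)) : Ω) ∈ T := by
  obtain ⟨φh, hφh, hφhQ, hφhK⟩ := hgood
  have hTS : T ≤ S := hT.1
  have hKS : centralizerIn S T ≤ S := inf_le_left
  have hTKS : T ⊔ centralizerIn S T ≤ S := sup_le hTS hKS
  have hQT : Q ≤ T := hQ.1
  have hQTK : Q ≤ T ⊔ centralizerIn S T := hQT.trans le_sup_left
  have hβF : (T ⊔ centralizerIn S T).subtype.comp βh.toMonoidHom ∈
      F.Hom (T ⊔ centralizerIn S T) := (mem_autGroup_iff F hTKS βh).mp hβh
  have hβiF : (T ⊔ centralizerIn S T).subtype.comp (βh⁻¹).toMonoidHom ∈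
      F.Hom (T ⊔ centralizerIn S T) := (mem_autGroup_iff F hTKS βh⁻¹).mp (inv_mem hβh)
  have hφF : φ ∈ F.Hom Q := by
    have h1 := restrict_mem F hQTK hβF
    have h2 : φ = ((T ⊔ centralizerIn S T).subtype.comp βh.toMonoidHom).comp
        (Subgroup.inclusion hQTK) := by
      ext x
      exact hφ x
    rw [h2]
    exact h1
  have hφT : ∀ x : Q, φ x ∈ T := hT.2 Q hQT φ hφF
  have hcen : centralizerIn T φ.range ≤ φ.range := hQ.2 φ.range ⟨φ, hφF, rfl⟩
  have hkey : ∀ c : centralizerIn S T, ∃ q : Q,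
      (c : Ω)⁻¹ * φh (Subgroup.inclusion le_sup_right c) = φ q := by
    intro c
    have hc2 : (c : Ω) ∈ Subgroup.centralizer (T : Set Ω) := c.2.2
    have ht : (c : Ω)⁻¹ * φh (Subgroup.inclusion le_sup_right c) ∈ centralizerIn T φ.range := by
      refine mem_centralizerIn.mpr ⟨hφhK c, ?_⟩
      rintro _ ⟨x, rfl⟩
      have e1 : φ x * (c : Ω) = (c : Ω) * φ x :=
        Subgroup.mem_centralizer_iff.mp hc2 (φ x) (hφT x)
      have e2 : φ x * φh (Subgroup.inclusion le_sup_right c) =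
          φh (Subgroup.inclusion le_sup_right c) * φ x := by
        rw [← hφhQ x, ← map_mul, ← map_mul]
        congr 1
        apply Subtype.ext
        show (x : Ω) * (c : Ω) = (c : Ω) * (x : Ω)
        exact Subgroup.mem_centralizer_iff.mp hc2 x (hQT x.2)
      have e3 : φ x * (c : Ω)⁻¹ = (c : Ω)⁻¹ * φ x := by
        rw [eq_inv_mul_iff_mul_eq, ← mul_assoc, ← e1, mul_assoc, mul_inv_cancel, mul_one]
      rw [← mul_assoc, e3, mul_assoc, e2, mul_assoc]
    obtain ⟨q, hq⟩ := hcen ht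
    exact ⟨q, hq.symm⟩
  have h1 : ∀ v, φh v ∈ T ⊔ centralizerIn S T := by
    intro v
    apply Cfsg.Agent.Helper3.CSE.cseextq_sup_mem φh (T ⊔ centralizerIn S T)
    · intro a ha
      have h2 := hφhQ ⟨a, ha⟩
      have h3 : φh ⟨a, (le_sup_left : Q ≤ Q ⊔ centralizerIn S T) ha⟩ = φ ⟨a, ha⟩ := h2
      rw [h3]
      exact Subgroup.mem_sup_left (hφT _)
    · intro b hb
      have hk : b⁻¹ * φh ⟨b, (le_sup_right : centralizerIn S T ≤ Q ⊔ centralizerIn S T) hb⟩ ∈ T :=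
        hφhK ⟨b, hb⟩
      have h2 : φh ⟨b, (le_sup_right : centralizerIn S T ≤ Q ⊔ centralizerIn S T) hb⟩ =
          b * (b⁻¹ * φh ⟨b, (le_sup_right : centralizerIn S T ≤ Q ⊔ centralizerIn S T) hb⟩) := by
        group
      rw [h2]
      exact mul_mem (Subgroup.mem_sup_right hb) (Subgroup.mem_sup_left hk)
  have hμ := F.comp_mem hφh hβiF h1
  have hμv : ∀ v, (((T ⊔ centralizerIn S T).subtype.comp (βh⁻¹).toMonoidHom).comp
      (φh.codRestrict (T ⊔ centralizerIn S T) h1)) v ∈ Q ⊔ centralizerIn S T := by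
    intro v
    apply Cfsg.Agent.Helper3.CSE.cseextq_sup_mem _ (Q ⊔ centralizerIn S T)
    · intro a ha
      have e : (φh.codRestrict (T ⊔ centralizerIn S T) h1)
          ⟨a, (le_sup_left : Q ≤ Q ⊔ centralizerIn S T) ha⟩ =
          βh (Subgroup.inclusion hQTK ⟨a, ha⟩) := by
        apply Subtype.ext
        show φh (Subgroup.inclusion le_sup_left ⟨a, ha⟩) = _
        rw [hφhQ, hφ]
      show ((βh⁻¹ ((φh.codRestrict (T ⊔ centralizerIn S T) h1)
        ⟨a, (le_sup_left : Q ≤ Q ⊔ centralizerIn S T) ha⟩) : ↥(T ⊔ centralizerIn S T)) : Ω) ∈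
        Q ⊔ centralizerIn S T
      rw [e, MulAut.inv_apply_self]
      exact Subgroup.mem_sup_left ha
    · intro b hb
      obtain ⟨q, hq⟩ := hkey ⟨b, hb⟩
      have hc' := aut_cen_mem F hT βh⁻¹ (inv_mem hβh) ⟨b, hb⟩
      have e : (φh.codRestrict (T ⊔ centralizerIn S T) h1)
          ⟨b, (le_sup_right : centralizerIn S T ≤ Q ⊔ centralizerIn S T) hb⟩ =
          (Subgroup.inclusion le_sup_right (⟨b, hb⟩ : centralizerIn S T) :
            ↥(T ⊔ centralizerIn S T)) * βh (Subgroup.inclusion hQTK q) := by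
        apply Subtype.ext
        show φh (Subgroup.inclusion le_sup_right ⟨b, hb⟩) =
          b * ((βh (Subgroup.inclusion hQTK q) : ↥(T ⊔ centralizerIn S T)) : Ω)
        rw [← hφ, ← hq]
        show _ = b * (b⁻¹ * _)
        group
      show ((βh⁻¹ ((φh.codRestrict (T ⊔ centralizerIn S T) h1)
        ⟨b, (le_sup_right : centralizerIn S T ≤ Q ⊔ centralizerIn S T) hb⟩) :
          ↥(T ⊔ centralizerIn S T)) : Ω) ∈ Q ⊔ centralizerIn S T
      rw [e, map_mul, MulAut.inv_apply_self]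
      exact mul_mem (Subgroup.mem_sup_right hc') (Subgroup.mem_sup_left q.2)
  obtain ⟨κ, hκ, hκv⟩ := exists_aut_of_hom F hμ hμv
  refine ⟨κ, hκ, ?_, ?_⟩
  · intro x
    apply Subtype.ext
    rw [hκv]
    have e : (φh.codRestrict (T ⊔ centralizerIn S T) h1) (Subgroup.inclusion le_sup_left x) =
        βh (Subgroup.inclusion hQTK x) := by
      apply Subtype.ext
      show φh (Subgroup.inclusion le_sup_left x) = _
      rw [hφhQ, hφ]
    show ((βh⁻¹ ((φh.codRestrict (T ⊔ centralizerIn S T) h1) (Subgroup.inclusion le_sup_left x)) :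
      ↥(T ⊔ centralizerIn S T)) : Ω) = _
    rw [e, MulAut.inv_apply_self]
    rfl
  · intro c
    have e : Subgroup.inclusion (sup_le_sup_right hQ.1 _) (κ (Subgroup.inclusion le_sup_right c)) =
        βh⁻¹ ((φh.codRestrict (T ⊔ centralizerIn S T) h1) (Subgroup.inclusion le_sup_right c)) := by
      apply Subtype.ext
      exact hκv _
    rw [e, MulAut.apply_inv_self]
    exact hφhK c

end Cfsg.Agent.Helper8.WNO
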