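import Mathlib
import Cfsg.Agent.Lib.WNO.WNODefs
import Cfsg.Agent.Lib.WNO.WNOPow
import Cfsg.Agent.Lib.WNO.WNORLift
import Cfsg.Agent.Lib.Helper25.FusionNormal
import Cfsg.Agent.Lib.Helper25.FusionInvariant

/-!
# S5141 farm (design helper8), piece WNO-RPOW (MEDIUM-LONG)

`βh ∈ Aut_F(T ⊔ K)` of order prime to `p`, `κ ∈ Aut_F(Q ⊔ K)` fixing `Q` with `βh (κ c) ∈ c T` for `c ∈ K`.
Then the `p'`-part `ξ` of `κ` has the same properties.

Recipe.  Write `x ~ y` for `x⁻¹ * y ∈ T` (`x y : Ω`); `T ⊴ S` (`Helper25.mem_normalizer_of_stronglyClosed`), so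
`~` is a congruence on `S`, and `βh`, `βh⁻¹` preserve `~` (they map `T` into `T`: strong closure `hT.2`).
* (H1) for all `v : ↥(Q ⊔ K)`: `κ v ~ βh⁻¹ v`.  The set of such `v` is a subgroup (congruence), contains `K`
  (hypothesis, after applying `βh⁻¹`) and `Q` (`κ q = q` and `βh⁻¹ q` both lie in `T`); use
  `Helper3.CSE.cseextq_sup_mem`-style closure argument.
* (H2) by induction on `n`: `(κ ^ n) v ~ (βh⁻¹ ^ n) v` (`κ ^ (n+1) v = κ (κ ^ n v) ~ βh⁻¹ (κ ^ n v) ~ βh⁻¹ (βh⁻¹ ^ n v)`).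
* `exists_pow_coprime κ p (orderOf βh) hco` gives `j ≡ 1 [MOD orderOf βh]` with `orderOf (κ ^ j)` prime to `p`;
  `ξ := κ ^ j ∈ F.autGroup _` (`Subgroup.pow_mem`), fixes `Q` (induction), and `βh ^ j = βh`
  (`pow_eq_pow_iff_modEq`), so `ξ c ~ βh⁻¹ c`, i.e. `βh (ξ c) ~ c`.
Keep statement, name, namespace exactly; you may add imports; aux names with prefix `wnorpow_`.
-/

set_option autoImplicit false
set_option linter.style.haveILetI false

namespace Cfsg.Agent.Helper8.WNO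

open Cfsg Cfsg.FusionSystem Cfsg.Agent.Helper25 Cfsg.Agent.Helper3

variable {Ω : Type*} [Group Ω] {S : Subgroup Ω}

theorem kappa_pow [Finite S] (p : ℕ) [Fact p.Prime] (F : FusionSystem S) {T Q : Subgroup Ω}
    (hT : F.StronglyClosed T) (hQT : Q ≤ T)
    (βh : MulAut ↥(T ⊔ centralizerIn S T)) (hβh : βh ∈ F.autGroup (T ⊔ centralizerIn S T))
    (hco : (orderOf βh).Coprime p)
    (κ : MulAut ↥(Q ⊔ centralizerIn S T)) (hκ : κ ∈ F.autGroup (Q ⊔ centralizerIn S T))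
    (hfix : FixL Q (centralizerIn S T) κ)
    (hκc : ∀ c : centralizerIn S T, (c : Ω)⁻¹ *
        ((βh (Subgroup.inclusion (sup_le_sup_right hQT _) (κ (Subgroup.inclusion le_sup_right c))) :
          ↥(T ⊔ centralizerIn S T)) : Ω) ∈ T) :
    ∃ ξ : MulAut ↥(Q ⊔ centralizerIn S T), ξ ∈ F.autGroup (Q ⊔ centralizerIn S T) ∧
      FixL Q (centralizerIn S T) ξ ∧ (orderOf ξ).Coprime p ∧
      ∀ c : centralizerIn S T, (c : Ω)⁻¹ *
        ((βh (Subgroup.inclusion (sup_le_sup_right hQT _) (ξ (Subgroup.inclusion le_sup_right c))) :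
          ↥(T ⊔ centralizerIn S T)) : Ω) ∈ T := by
  have hTS : T ≤ S := hT.1
  have hKS : centralizerIn S T ≤ S := centralizerIn_le
  have hTKS : T ⊔ centralizerIn S T ≤ S := sup_le hTS hKS
  have hQKS : Q ⊔ centralizerIn S T ≤ S := sup_le (hQT.trans hTS) hKS
  have hι : Q ⊔ centralizerIn S T ≤ T ⊔ centralizerIn S T := sup_le_sup_right hQT _
  haveI : Finite ↥(Q ⊔ centralizerIn S T) :=
    Finite.of_injective (Subgroup.inclusion hQKS) (Subgroup.inclusion_injective _)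
  haveI : Finite (MulAut ↥(Q ⊔ centralizerIn S T)) :=
    Finite.of_injective (fun α : MulAut ↥(Q ⊔ centralizerIn S T) =>
      (α : ↥(Q ⊔ centralizerIn S T) → ↥(Q ⊔ centralizerIn S T))) DFunLike.coe_injective
  -- `T` is normal in `S`
  have hnorm : ∀ {g t : Ω}, g ∈ S → t ∈ T → g⁻¹ * t * g ∈ T := by
    intro g t hg ht
    have hN := mem_normalizer_of_stronglyClosed hT (S.inv_mem hg)
    have := (Subgroup.mem_normalizer_iff.mp hN t).mp ht
    simpa using this
  -- automorphisms in `Aut_F(T K)` preserve `T`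
  have hstab : ∀ γ ∈ F.autGroup (T ⊔ centralizerIn S T), ∀ a : ↥(T ⊔ centralizerIn S T),
      (a : Ω) ∈ T → ((γ a : ↥(T ⊔ centralizerIn S T)) : Ω) ∈ T := by
    intro γ hγ a ha
    have h1 := (mem_autGroup_iff F hTKS γ).mp hγ
    have h2 := restrict_mem F (le_sup_left : T ≤ T ⊔ centralizerIn S T) h1
    exact hT.2 T le_rfl _ h2 ⟨a, ha⟩
  have hcong : ∀ γ ∈ F.autGroup (T ⊔ centralizerIn S T), ∀ a b : ↥(T ⊔ centralizerIn S T),
      (a : Ω)⁻¹ * (b : Ω) ∈ T →
      ((γ a : ↥(T ⊔ centralizerIn S T)) : Ω)⁻¹ * ((γ b : ↥(T ⊔ centralizerIn S T)) : Ω) ∈ T := by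
    intro γ hγ a b hab
    have h1 := hstab γ hγ (a⁻¹ * b) (by simpa using hab)
    rw [map_mul, map_inv] at h1
    simpa using h1
  -- the property for `κ`
  have hP : ∀ v : ↥(Q ⊔ centralizerIn S T),
      (v : Ω)⁻¹ * ((βh (Subgroup.inclusion hι (κ v)) : ↥(T ⊔ centralizerIn S T)) : Ω) ∈ T := by
    rintro ⟨z, hz⟩
    have : ∀ hz : z ∈ Q ⊔ centralizerIn S T,
        z⁻¹ * ((βh (Subgroup.inclusion hι (κ ⟨z, hz⟩)) : ↥(T ⊔ centralizerIn S T)) : Ω) ∈ T := by
      refine sup_induction (C := fun z => ∀ hz : z ∈ Q ⊔ centralizerIn S T,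
        z⁻¹ * ((βh (Subgroup.inclusion hι (κ ⟨z, hz⟩)) : ↥(T ⊔ centralizerIn S T)) : Ω) ∈ T)
        ?_ ?_ ?_ hz
      · intro q hq hz'
        have e : κ ⟨q, hz'⟩ = ⟨q, hz'⟩ := hfix ⟨q, hq⟩
        rw [e]
        have h1 := hstab βh hβh (Subgroup.inclusion hι ⟨q, hz'⟩) (hQT hq)
        exact T.mul_mem (T.inv_mem (hQT hq)) h1
      · intro c hc hz'
        exact hκc ⟨c, hc⟩
      · intro a b ha hb hCa hCb hab
        have e : (⟨a * b, hab⟩ : ↥(Q ⊔ centralizerIn S T)) = ⟨a, ha⟩ * ⟨b, hb⟩ := rfl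
        rw [e, map_mul, map_mul, map_mul, Subgroup.coe_mul]
        have h1 := hCa ha
        have h2 := hCb hb
        have hbS : b ∈ S := hQKS hb
        have h3 := hnorm hbS h1
        have h4 := T.mul_mem h3 h2
        have e2 : ∀ ga gb : Ω, (a * b)⁻¹ * (ga * gb) = b⁻¹ * (a⁻¹ * ga) * b * (b⁻¹ * gb) := by
          intro ga gb; group
        rw [e2]; exact h4
    exact this hz
  -- powers
  have hH2 : ∀ (n : ℕ) (v : ↥(Q ⊔ centralizerIn S T)),
      (v : Ω)⁻¹ * (((βh ^ n) (Subgroup.inclusion hι ((κ ^ n) v)) :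
        ↥(T ⊔ centralizerIn S T)) : Ω) ∈ T := by
    intro n
    induction n with
    | zero => intro v; simp
    | succ n ih =>
      intro v
      have hγ : βh ^ n ∈ F.autGroup (T ⊔ centralizerIn S T) := Subgroup.pow_mem _ hβh n
      have h1 := hP ((κ ^ n) v)
      have h2 := hcong (βh ^ n) hγ (Subgroup.inclusion hι ((κ ^ n) v))
        (βh (Subgroup.inclusion hι (κ ((κ ^ n) v)))) h1
      have h3 := ih v
      have h4 := T.mul_mem h3 h2
      have e1 : (βh ^ (n + 1)) (Subgroup.inclusion hι ((κ ^ (n + 1)) v)) =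
          (βh ^ n) (βh (Subgroup.inclusion hι (κ ((κ ^ n) v)))) := by
        rw [pow_succ βh n, pow_succ' κ n, MulAut.mul_apply, MulAut.mul_apply]
      rw [e1]
      have e2 : ∀ a b c : Ω, a⁻¹ * b * (b⁻¹ * c) = a⁻¹ * c := by
        intro a b c; group
      rw [e2] at h4
      exact h4
  obtain ⟨j, hj1, hjco, -⟩ := exists_pow_coprime κ p (orderOf βh) hco
  have hβj : βh ^ j = βh := by
    have : βh ^ j = βh ^ 1 := pow_eq_pow_iff_modEq.mpr hj1
    rwa [pow_one] at this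
  refine ⟨κ ^ j, Subgroup.pow_mem _ hκ j, ?_, hjco, ?_⟩
  · intro x
    have : ∀ n : ℕ, (κ ^ n) (Subgroup.inclusion le_sup_left x) =
        Subgroup.inclusion le_sup_left x := by
      intro n
      induction n with
      | zero => simp
      | succ n ih => rw [pow_succ', MulAut.mul_apply, ih, hfix x]
    exact this j
  · intro c
    have := hH2 j (Subgroup.inclusion le_sup_right c)
    rw [hβj] at this
    exact this

end Cfsg.Agent.Helper8.WNO
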