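import Mathlib
import Cfsg.Agent.Lib.WNO.WNODefs
import Cfsg.Agent.Lib.WNO.WNOKcTop
import Cfsg.Agent.Lib.WNO.WNORLift
import Cfsg.Agent.Lib.WNO.WNORKap
import Cfsg.Agent.Lib.WNO.WNORPow

/-!
# S5141 farm (design helper8), piece WNO-RIGID (SHORT-MEDIUM, assembly of the pure `F`-part)

RIGIDITY: `β ∈ Aut_F(T)` of order prime to `p` whose restriction to a `TCen` subgroup `Q` is `Good`, is `Good`.

Recipe.  `exists_pprime_lift` gives `βh` (order prime to `p`, extends `β`); `exists_kappa` (with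
`φ := (T.subtype.comp β.toMonoidHom).comp (Subgroup.inclusion hQ.1)`, `hφ` from the extension property) gives `κ`;
`kappa_pow` gives `ξ` of order prime to `p`; `kc_top` gives `ζ ∈ Aut_F(T ⊔ K)` fixing `T` and equal to `ξ` on `K`.
Witness for `Good F T T _`: `ψ := (T ⊔ K).subtype.comp (βh * ζ).toMonoidHom` (`Helper25.mem_autGroup_iff`,
`Subgroup.mul_mem`): `ψ (incl x) = βh (ζ (incl x)) = βh (incl x) = β x`, and
`c⁻¹ * ψ (incl c) = c⁻¹ * βh (ζ (incl c))` with `ζ (incl c) = inclusion _ (ξ (incl c))` (`Subtype.ext`).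
Keep statement, name, namespace exactly; you may add imports; aux names with prefix `wnorigid_`.
-/

set_option autoImplicit false

namespace Cfsg.Agent.Helper8.WNO

open Cfsg Cfsg.FusionSystem Cfsg.Agent.Helper25 Cfsg.Agent.Helper3

variable {Ω : Type*} [Group Ω] {S : Subgroup Ω}

theorem rigid [Finite S] (p : ℕ) [Fact p.Prime] (hS : IsPGroup p S) (F : FusionSystem S)
    (hF : F.IsSaturated p) {T Q : Subgroup Ω} (hT : F.StronglyClosed T) (hQ : TCen F T Q)
    (β : MulAut T) (hβ : β ∈ F.autGroup T) (hco : (orderOf β).Coprime p)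
    (hgood : Good F T Q ((T.subtype.comp β.toMonoidHom).comp (Subgroup.inclusion hQ.1))) :
    Good F T T (T.subtype.comp β.toMonoidHom) := by
  have hQS : T ⊔ centralizerIn S T ≤ S := sup_le hT.1 inf_le_left
  obtain ⟨βh, hβh, hcoβh, hβhx⟩ := exists_pprime_lift p hS F hF hT β hβ hco
  have hφ : ∀ x : Q, ((T.subtype.comp β.toMonoidHom).comp (Subgroup.inclusion hQ.1)) x =
      ((βh (Subgroup.inclusion (hQ.1.trans le_sup_left) x) : ↥(T ⊔ centralizerIn S T)) : Ω) := by
    intro x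
    have h1 := hβhx (Subgroup.inclusion hQ.1 x)
    have h2 : (Subgroup.inclusion le_sup_left (Subgroup.inclusion hQ.1 x) :
        ↥(T ⊔ centralizerIn S T)) = Subgroup.inclusion (hQ.1.trans le_sup_left) x :=
      Subtype.ext rfl
    rw [h2] at h1
    rw [h1]
    rfl
  obtain ⟨κ, hκ, hfix, hκc⟩ := exists_kappa F hT hQ βh hβh _ hφ hgood
  obtain ⟨ξ, hξ, hfixξ, hcoξ, hξc⟩ := kappa_pow p F hT hQ.1 βh hβh hcoβh κ hκ hfix hκc
  obtain ⟨ζ, hζ, hfixζ, hζc⟩ := kc_top p hS F hF hT hQ ξ hξ hfixξ hcoξ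
  refine ⟨(T ⊔ centralizerIn S T).subtype.comp (βh * ζ).toMonoidHom,
    (mem_autGroup_iff F hQS (βh * ζ)).mp (Subgroup.mul_mem _ hβh hζ), ?_, ?_⟩
  · intro x
    have h1 : ((T ⊔ centralizerIn S T).subtype.comp (βh * ζ).toMonoidHom)
        (Subgroup.inclusion le_sup_left x) =
        ((βh (ζ (Subgroup.inclusion le_sup_left x)) : ↥(T ⊔ centralizerIn S T)) : Ω) := rfl
    rw [h1, hfixζ x, hβhx x]
    rfl
  · intro c
    have h1 : ((T ⊔ centralizerIn S T).subtype.comp (βh * ζ).toMonoidHom)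
        (Subgroup.inclusion le_sup_right c) =
        ((βh (ζ (Subgroup.inclusion le_sup_right c)) : ↥(T ⊔ centralizerIn S T)) : Ω) := rfl
    have h2 : ζ (Subgroup.inclusion le_sup_right c) =
        Subgroup.inclusion (sup_le_sup_right hQ.1 _) (ξ (Subgroup.inclusion le_sup_right c)) :=
      Subtype.ext (hζc c)
    rw [h1, h2]
    exact hξc c

end Cfsg.Agent.Helper8.WNO
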