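import Mathlib
import Cfsg.Agent.Lib.WNO.WNODefs
import Cfsg.Agent.Lib.Helper25.FusionPrimeIndex2
import Cfsg.Agent.Lib.Helper25.FusionCentric
import Cfsg.Agent.Lib.Helper25.FusionInvariant

/-!
# S5141 farm (design helper8), part 2 (`E`-side): definitions

`E` saturated over `T`, invariant in the saturated `F` over `S`; `K := centralizerIn S T`.
* `PelGood F E p P`: every `p`-element `γ` of `Aut_E(P)` is `Good` (extends to `P ⊔ K` moving `c ∈ K` in `c T`).
* `OPn F E p n`: `PelGood` for all `E`-centric `P` of order `> n`.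
* `PrN F E n P φ`: `φ` is `Good` if `P` is `E`-centric of order `> n` (the predicate cutting out the truncated
  subsystem `XN` of `E`, see `WNOEXn.lean`).
PLAN: `op_all : OPn F E p 0` by downward induction (`WNOEStep.lean`); `ext_good` (`WNOEExt.lean`);
`Adm E p (XN 0)` (`WNOEAdm.lean`), hence `minSys E p ≤ XN 0`, i.e. every `α ∈ Aut_{O^{p'}(E)}(T)` is `Good`,
which is the extension clause of `IsNormalIn` (`WNOETop.lean`).
-/

set_option autoImplicit false

namespace Cfsg.Agent.Helper8.WNO

open Cfsg Cfsg.FusionSystem Cfsg.Agent.Helper25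

variable {Ω : Type*} [Group Ω] {S : Subgroup Ω}

/-- Every `p`-element of `Aut_E(P)` is `Good`. -/
def PelGood (F : FusionSystem S) {T : Subgroup Ω} (E : FusionSystem T) (p : ℕ) (P : Subgroup Ω) : Prop :=
  ∀ γ ∈ E.autGroup P, ∀ k : ℕ, orderOf γ = p ^ k → Good F T P (P.subtype.comp γ.toMonoidHom)

/-- `PelGood` for all `E`-centric subgroups of order `> n`. -/
def OPn (F : FusionSystem S) {T : Subgroup Ω} (E : FusionSystem T) (p n : ℕ) : Prop :=
  ∀ P : Subgroup Ω, E.IsCentric P → n < Nat.card P → PelGood F E p P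

/-- `φ` is `Good` whenever its source is `E`-centric of order `> n`. -/
def PrN (F : FusionSystem S) {T : Subgroup Ω} (E : FusionSystem T) (n : ℕ) (P : Subgroup Ω)
    (φ : P →* Ω) : Prop :=
  E.IsCentric P → n < Nat.card P → Good F T P φ

end Cfsg.Agent.Helper8.WNO
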