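import Mathlib
import Cfsg.Agent.Lib.WNO.WNOEDefs
import Cfsg.Agent.Lib.PIY.PIYTCen

/-!
# S5141 farm (design helper8), piece WNOE-CEN (SHORT-MEDIUM): `E`-centric subgroups (`E` invariant in `F`)

`TCen F T Q` is definitionally `Helper22.PIY.TCentric F T Q`.
* `isCentric_of_isConj_F`: `TCen F T P` (`tCen_of_isCentric`), `P' ≤ T` by strong closure
  (`hinv.2.1.2 P hP.1 φ hφ`), every `F`-conjugate of `P'` is one of `P` (`Helper25.isConj_trans`), so `TCen F T P'`;
  `isCentric_of_tCen`.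
* `isCentric_map_aut`: `F.IsConj P (aP)` via the restriction of `a` to `P`
  (`(T.subtype.comp a.toMonoidHom).comp (Subgroup.inclusion hP.1)`, `Helper25.mem_autGroup_iff`,
  `Helper25.restrict_mem`; range `= aP` by `ext`), then `isCentric_of_isConj_F`.
Keep statements, names, namespace exactly; you may add imports; aux names with prefix `wnoecen_`.
-/

set_option autoImplicit false

namespace Cfsg.Agent.Helper8.WNO

open Cfsg Cfsg.FusionSystem Cfsg.Agent.Helper25

variable {Ω : Type*} [Group Ω] {S : Subgroup Ω}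

theorem tCen_of_isCentric (F : FusionSystem S) {T : Subgroup Ω} (E : FusionSystem T)
    (hinv : E.IsInvariantIn F) {Q : Subgroup Ω} (hQ : E.IsCentric Q) : TCen F T Q :=
  Cfsg.Agent.Helper22.PIY.tcentric_of_isCentric hinv.2.1.1 hinv hQ

theorem isCentric_of_tCen (F : FusionSystem S) {T : Subgroup Ω} (E : FusionSystem T)
    (hEF : E.IsSubsystemOf F) {Q : Subgroup Ω} (hQ : TCen F T Q) : E.IsCentric Q :=
  Cfsg.Agent.Helper22.PIY.isCentric_of_tcentric hEF hQ

theorem cen_range_le {T : Subgroup Ω} (E : FusionSystem T) {P : Subgroup Ω} (hP : E.IsCentric P)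
    {φ : P →* Ω} (hφ : φ ∈ E.Hom P) : centralizerIn T φ.range ≤ φ.range :=
  hP.2 _ ⟨φ, hφ, rfl⟩

theorem isCentric_of_isConj_F (F : FusionSystem S) {T : Subgroup Ω} (E : FusionSystem T)
    (hinv : E.IsInvariantIn F) {P P' : Subgroup Ω} (hP : E.IsCentric P) (h : F.IsConj P P') :
    E.IsCentric P' := by
  have hTC : TCen F T P := tCen_of_isCentric F E hinv hP
  have hP'T : P' ≤ T := by
    obtain ⟨φ, hφ, rfl⟩ := h
    rintro _ ⟨x, rfl⟩
    exact hinv.2.1.2 P hP.1 φ hφ x
  have hTC' : TCen F T P' := ⟨hP'T, fun Q' hQ' => hTC.2 Q' (isConj_trans F h hQ')⟩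
  exact isCentric_of_tCen F E hinv.1 hTC'

theorem isCentric_map_aut (F : FusionSystem S) {T : Subgroup Ω} (E : FusionSystem T)
    (hinv : E.IsInvariantIn F) {P : Subgroup Ω} (hP : E.IsCentric P) (a : MulAut T)
    (ha : a ∈ F.autGroup T) :
    E.IsCentric ((P.subgroupOf T).map (T.subtype.comp a.toMonoidHom)) := by
  have hTS : T ≤ S := hinv.2.1.1
  have hφ : (T.subtype.comp a.toMonoidHom).comp (Subgroup.inclusion hP.1) ∈ F.Hom P :=
    restrict_mem F hP.1 ((mem_autGroup_iff F hTS a).mp ha)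
  have hrange : ((T.subtype.comp a.toMonoidHom).comp (Subgroup.inclusion hP.1)).range =
      (P.subgroupOf T).map (T.subtype.comp a.toMonoidHom) := by
    ext y
    constructor
    · rintro ⟨x, rfl⟩
      exact ⟨⟨(x : Ω), hP.1 x.2⟩, Subgroup.mem_subgroupOf.mpr x.2, rfl⟩
    · rintro ⟨t, ht, rfl⟩
      exact ⟨⟨(t : Ω), Subgroup.mem_subgroupOf.mp ht⟩, rfl⟩
  exact isCentric_of_isConj_F F E hinv hP ⟨_, hφ, hrange⟩

end Cfsg.Agent.Helper8.WNO
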