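import Mathlib
import Cfsg.Agent.Lib.WNO.WNOEDefs
import Cfsg.Agent.Lib.CSE.CSEDefs

/-!
# S5141 farm (design helper8), piece WNOE-GOOD (four SHORT lemmas on `Good`)

`K := centralizerIn S T`.  `Good F T P φ` unfolds to: `∃ ψ ∈ F.Hom (P ⊔ K)`, `ψ (incl x) = φ x` on `P`,
`c⁻¹ * ψ (incl c) ∈ T` on `K`.
* `good_conjHom`: witness `conjHom (P ⊔ K) g` (`F.conj_mem`, `P ⊔ K ≤ S`); `c⁻¹ * (g c g⁻¹) = 1` since `c`
  centralizes `T ∋ g` (`Helper25.mem_centralizerIn`).  `conjHom` is in `Cfsg/Prelude/Def_FusionSystem.lean`.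
* `good_restrict`: restrict the witness to `Q ⊔ K ≤ P ⊔ K` (`Helper25.restrict_mem`, `sup_le_sup_right`).
* `good_cen`: `t := c⁻¹ * ψ c ∈ T` commutes with every `φ x` (`c` centralizes `T ∋ φ x`; `ψ c` commutes with
  `ψ (incl x) = φ x` because `c` commutes with `x ∈ P ≤ T`), so `t ∈ centralizerIn T φ.range ≤ φ.range`.
* `good_of_liftZ`: `LiftZ F P γ` (`Lib/CSE/CSEDefs.lean`) gives `β ∈ Aut_F(P ⊔ C_S(P))`; as `P ≤ T`,
  `K ≤ centralizerIn S P`; restrict `(P ⊔ C_S(P)).subtype.comp β.toMonoidHom` (`Helper25.mem_autGroup_iff`) to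
  `P ⊔ K`; `c⁻¹ * β c ∈ zOf P ≤ P ≤ T`.
Keep statements, names, namespace exactly; you may add imports; aux names with prefix `wnoegood_`.
-/

set_option autoImplicit false

namespace Cfsg.Agent.Helper8.WNO

open Cfsg Cfsg.FusionSystem Cfsg.Agent.Helper25 Cfsg.Agent.Helper3

variable {Ω : Type*} [Group Ω] {S : Subgroup Ω}

theorem good_conjHom (F : FusionSystem S) {T P : Subgroup Ω} (hTS : T ≤ S) (hPT : P ≤ T) {g : Ω}
    (hg : g ∈ T) : Good F T P (conjHom P g) := by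
  have hle : P ⊔ centralizerIn S T ≤ S := sup_le (hPT.trans hTS) inf_le_left
  refine ⟨conjHom (P ⊔ centralizerIn S T) g, F.conj_mem hle (hTS hg), fun x => rfl, fun c => ?_⟩
  have hcg : g * (c : Ω) = (c : Ω) * g := (mem_centralizerIn.mp c.2).2 g hg
  have e : (c : Ω)⁻¹ * conjHom (P ⊔ centralizerIn S T) g (Subgroup.inclusion le_sup_right c) = 1 := by
    show (c : Ω)⁻¹ * (g * (c : Ω) * g⁻¹) = 1
    rw [hcg]
    group
  rw [e]
  exact T.one_mem

theorem good_restrict (F : FusionSystem S) {T P Q : Subgroup Ω} (hQP : Q ≤ P) {φ : P →* Ω}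
    (h : Good F T P φ) : Good F T Q (φ.comp (Subgroup.inclusion hQP)) := by
  obtain ⟨ψ, hψ, h1, h2⟩ := h
  have hle : Q ⊔ centralizerIn S T ≤ P ⊔ centralizerIn S T := sup_le_sup_right hQP _
  refine ⟨ψ.comp (Subgroup.inclusion hle), restrict_mem F hle hψ, fun x => ?_, fun c => ?_⟩
  · have := h1 (Subgroup.inclusion hQP x)
    exact this
  · have := h2 c
    exact this

theorem good_cen {T P : Subgroup Ω} (hPT : P ≤ T) (φ : P →* Ω) (hφT : ∀ x, φ x ∈ T)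
    (hcen : centralizerIn T φ.range ≤ φ.range)
    (ψ : ↥(P ⊔ centralizerIn S T) →* Ω)
    (hψ : ∀ x : P, ψ (Subgroup.inclusion le_sup_left x) = φ x)
    (c : centralizerIn S T) (hc : (c : Ω)⁻¹ * ψ (Subgroup.inclusion le_sup_right c) ∈ T) :
    (c : Ω)⁻¹ * ψ (Subgroup.inclusion le_sup_right c) ∈ φ.range := by
  apply hcen
  rw [mem_centralizerIn]
  refine ⟨hc, ?_⟩
  rintro _ ⟨x, rfl⟩
  have hc1 : φ x * (c : Ω) = (c : Ω) * φ x := (mem_centralizerIn.mp c.2).2 _ (hφT x)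
  have hc1' : φ x * (c : Ω)⁻¹ = (c : Ω)⁻¹ * φ x := by
    calc φ x * (c : Ω)⁻¹ = (c : Ω)⁻¹ * ((c : Ω) * φ x) * (c : Ω)⁻¹ := by group
      _ = (c : Ω)⁻¹ * (φ x * (c : Ω)) * (c : Ω)⁻¹ := by rw [hc1]
      _ = (c : Ω)⁻¹ * φ x := by group
  have hxc : (x : Ω) * (c : Ω) = (c : Ω) * (x : Ω) := (mem_centralizerIn.mp c.2).2 _ (hPT x.2)
  have hcomm : (Subgroup.inclusion (le_sup_left : P ≤ P ⊔ centralizerIn S T) x) *
      (Subgroup.inclusion (le_sup_right : centralizerIn S T ≤ P ⊔ centralizerIn S T) c) =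
      (Subgroup.inclusion (le_sup_right : centralizerIn S T ≤ P ⊔ centralizerIn S T) c) *
      (Subgroup.inclusion (le_sup_left : P ≤ P ⊔ centralizerIn S T) x) := Subtype.ext hxc
  have h2 := congrArg ψ hcomm
  rw [map_mul, map_mul, hψ x] at h2
  calc φ x * ((c : Ω)⁻¹ * ψ (Subgroup.inclusion le_sup_right c))
      = (φ x * (c : Ω)⁻¹) * ψ (Subgroup.inclusion le_sup_right c) := by rw [mul_assoc]
    _ = (c : Ω)⁻¹ * (φ x * ψ (Subgroup.inclusion le_sup_right c)) := by rw [hc1', mul_assoc]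
    _ = (c : Ω)⁻¹ * (ψ (Subgroup.inclusion le_sup_right c) * φ x) := by rw [h2]
    _ = (c : Ω)⁻¹ * ψ (Subgroup.inclusion le_sup_right c) * φ x := by rw [mul_assoc]

theorem good_of_liftZ (F : FusionSystem S) {T P : Subgroup Ω} (hTS : T ≤ S) (hPT : P ≤ T)
    {γ : MulAut P} (h : CSE.LiftZ F P γ) : Good F T P (P.subtype.comp γ.toMonoidHom) := by
  obtain ⟨β, hβ, h1, h2⟩ := h
  have hPS : P ≤ S := hPT.trans hTS
  have hKle : centralizerIn S T ≤ centralizerIn S P := by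
    intro c hc
    rw [mem_centralizerIn] at hc ⊢
    exact ⟨hc.1, fun x hx => hc.2 x (hPT hx)⟩
  have hle : P ⊔ centralizerIn S T ≤ P ⊔ centralizerIn S P := sup_le_sup_left hKle _
  have hUS : P ⊔ centralizerIn S P ≤ S := sup_le hPS inf_le_left
  have hβ' : (P ⊔ centralizerIn S P).subtype.comp β.toMonoidHom ∈ F.Hom (P ⊔ centralizerIn S P) :=
    (mem_autGroup_iff F hUS β).mp hβ
  refine ⟨((P ⊔ centralizerIn S P).subtype.comp β.toMonoidHom).comp (Subgroup.inclusion hle),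
    restrict_mem F hle hβ', fun x => ?_, fun c => ?_⟩
  · have := h1 x
    exact this
  · have hcU : (c : Ω) ∈ P ⊔ centralizerIn S P := Subgroup.mem_sup_right (hKle c.2)
    have := h2 ⟨(c : Ω), hcU⟩ (hKle c.2)
    have hz : (c : Ω)⁻¹ * ((β ⟨(c : Ω), hcU⟩ : ↥(P ⊔ centralizerIn S P)) : Ω) ∈ P := this.1
    exact hPT hz

end Cfsg.Agent.Helper8.WNO
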