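import Mathlib
import Cfsg.Agent.Lib.WNO.WNOEGood
import Cfsg.Agent.Lib.CSE.CSEExtQ

/-!
# S5141 farm (design helper8), piece WNOE-COMP (MEDIUM): composition of `Good` maps

`φ : P → Q`, `ψ` on `Q`, both `Good`, and `C_T(φ P) ≤ φ P`.  Witnesses `φh ∈ F.Hom (P ⊔ K)`, `ψh ∈ F.Hom (Q ⊔ K)`.
* `φh` maps `P ⊔ K` into `Q ⊔ K` (`Helper3.CSE.cseextq_sup_mem` with `D := Q ⊔ K`): on `P` it is `φ` (values in
  `Q`); for `c ∈ K`, `t := c⁻¹ * φh c ∈ φ.range ≤ Q` by `good_cen` (`hφT` from `h` and `hQT`), so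
  `φh c = c * t ∈ Q ⊔ K`.
* witness `ψh.comp (φh.codRestrict (Q ⊔ K) _)` (`F.comp_mem`).  On `x ∈ P`: `ψh ⟨φ x, _⟩ = ψ ⟨φ x, h x⟩`
  (`Subtype.ext`, then the first property of `ψh`).  On `c ∈ K`: `ψh ⟨c * t, _⟩ = ψh (incl c) * ψh (incl t)`,
  `c⁻¹ * ψh (incl c) ∈ T` and `ψh (incl t) ∈ T` by strong closure `hT.2` applied to the restriction of `ψh` to `Q`
  (`Helper25.restrict_mem`), or because it equals `ψ t` and ... (strong closure is simplest).
Keep statement, name, namespace exactly; you may add imports; aux names with prefix `wnoecomp_`.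
-/

set_option autoImplicit false

namespace Cfsg.Agent.Helper8.WNO

open Cfsg Cfsg.FusionSystem Cfsg.Agent.Helper25 Cfsg.Agent.Helper3

variable {Ω : Type*} [Group Ω] {S : Subgroup Ω}

theorem good_comp (F : FusionSystem S) {T P Q : Subgroup Ω} (hT : F.StronglyClosed T) (hPT : P ≤ T)
    (hQT : Q ≤ T) {φ : P →* Ω} {ψ : Q →* Ω} (h : ∀ x : P, φ x ∈ Q)
    (hcen : centralizerIn T φ.range ≤ φ.range) (hφ : Good F T P φ) (hψ : Good F T Q ψ) :
    Good F T P (ψ.comp (φ.codRestrict Q h)) := by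
  obtain ⟨φh, hφh, hφ1, hφ2⟩ := hφ
  obtain ⟨ψh, hψh, hψ1, hψ2⟩ := hψ
  have hφT : ∀ x, φ x ∈ T := fun x => hQT (h x)
  have hrQ : φ.range ≤ Q := by
    rintro _ ⟨x, rfl⟩
    exact h x
  have ht : ∀ c : centralizerIn S T,
      (c : Ω)⁻¹ * φh (Subgroup.inclusion le_sup_right c) ∈ Q :=
    fun c => hrQ (good_cen hPT φ hφT hcen φh hφ1 c (hφ2 c))
  have hmap : ∀ y : ↥(P ⊔ centralizerIn S T), φh y ∈ Q ⊔ centralizerIn S T := by
    intro y
    refine CSE.cseextq_sup_mem φh (Q ⊔ centralizerIn S T) ?_ ?_ y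
    · intro a ha
      have h1 : φh ⟨a, (le_sup_left : P ≤ P ⊔ centralizerIn S T) ha⟩ = φ ⟨a, ha⟩ := hφ1 ⟨a, ha⟩
      rw [h1]
      exact (le_sup_left : Q ≤ Q ⊔ centralizerIn S T) (h ⟨a, ha⟩)
    · intro b hb
      have h1 : b⁻¹ * φh ⟨b, (le_sup_right : centralizerIn S T ≤ P ⊔ centralizerIn S T) hb⟩ ∈ Q :=
        ht ⟨b, hb⟩
      have h2 : φh ⟨b, (le_sup_right : centralizerIn S T ≤ P ⊔ centralizerIn S T) hb⟩
          = b * (b⁻¹ * φh ⟨b, (le_sup_right : centralizerIn S T ≤ P ⊔ centralizerIn S T) hb⟩) := by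
        group
      rw [h2]
      exact Subgroup.mul_mem _ ((le_sup_right : centralizerIn S T ≤ Q ⊔ centralizerIn S T) hb)
        ((le_sup_left : Q ≤ Q ⊔ centralizerIn S T) h1)
  refine ⟨ψh.comp (φh.codRestrict (Q ⊔ centralizerIn S T) hmap), F.comp_mem hφh hψh hmap, ?_, ?_⟩
  · intro x
    show ψh ⟨φh (Subgroup.inclusion le_sup_left x), hmap _⟩ = ψ ⟨φ x, h x⟩
    have h1 : (⟨φh (Subgroup.inclusion le_sup_left x), hmap _⟩ : ↥(Q ⊔ centralizerIn S T))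
        = Subgroup.inclusion le_sup_left (⟨φ x, h x⟩ : Q) := Subtype.ext (hφ1 x)
    rw [h1, hψ1]
  · intro c
    show (c : Ω)⁻¹ * ψh ⟨φh (Subgroup.inclusion le_sup_right c), hmap _⟩ ∈ T
    have htQ : (c : Ω)⁻¹ * φh (Subgroup.inclusion le_sup_right c) ∈ Q := ht c
    have h1 : (⟨φh (Subgroup.inclusion le_sup_right c), hmap _⟩ : ↥(Q ⊔ centralizerIn S T))
        = Subgroup.inclusion le_sup_right c
          * Subgroup.inclusion le_sup_left
              (⟨(c : Ω)⁻¹ * φh (Subgroup.inclusion le_sup_right c), htQ⟩ : Q) := by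
      apply Subtype.ext
      show φh (Subgroup.inclusion le_sup_right c)
        = (c : Ω) * ((c : Ω)⁻¹ * φh (Subgroup.inclusion le_sup_right c))
      group
    rw [h1, map_mul, ← mul_assoc]
    refine T.mul_mem (hψ2 c) ?_
    have hres : ψh.comp (Subgroup.inclusion (le_sup_left : Q ≤ Q ⊔ centralizerIn S T)) ∈ F.Hom Q :=
      restrict_mem F le_sup_left hψh
    exact hT.2 Q hQT _ hres ⟨_, htQ⟩

end Cfsg.Agent.Helper8.WNO
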