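import Mathlib
import Cfsg.Agent.Lib.WNO.WNOEGood
import Cfsg.Agent.Lib.CSE.CSEExtQ

/-!
# S5141 farm (design helper8), piece WNOE-INV (MEDIUM): the inverse of a `Good` map is `Good`

`φ` on `P ≤ T` `Good` with witness `φh ∈ F.Hom (P ⊔ K)`, `C_T(φ P) ≤ φ P`, `ψ` the inverse of `φ` on `φ.range`.
* `φ.range ⊔ K ≤ φh.range`: `φ x = φh (incl x)`; for `c ∈ K`: `c⁻¹ * φh c ∈ φ.range` by `good_cen`
  (`hφT x : φ x ∈ T` by strong closure `hT.2` for `φh` restricted to `P`), say `= φ x`, so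
  `c = φh (incl c) * (φ x)⁻¹ = φh (incl c * (incl x)⁻¹)`.
* `F.inv_mem` gives `θ ∈ F.Hom φh.range` with `θ ⟨φh v, _⟩ = v`; witness
  `θ.comp (Subgroup.inclusion (_ : φ.range ⊔ K ≤ φh.range))` (`Helper25.restrict_mem`).
  On `⟨φ x, _⟩`: value `x = ψ ⟨φ x, _⟩` (`hinv`).  On `c ∈ K`: value `c * x⁻¹` with `x ∈ P ≤ T`, so
  `c⁻¹ * (c * x⁻¹) = x⁻¹ ∈ T`.
Keep statement, name, namespace exactly; you may add imports; aux names with prefix `wnoeinv_`.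
-/

set_option autoImplicit false

namespace Cfsg.Agent.Helper8.WNO

open Cfsg Cfsg.FusionSystem Cfsg.Agent.Helper25 Cfsg.Agent.Helper3

variable {Ω : Type*} [Group Ω] {S : Subgroup Ω}

theorem good_inv (F : FusionSystem S) {T P : Subgroup Ω} (hT : F.StronglyClosed T) (hPT : P ≤ T)
    {φ : P →* Ω} (hcen : centralizerIn T φ.range ≤ φ.range) (hφ : Good F T P φ)
    (ψ : φ.range →* Ω) (hinv : ∀ x : P, ψ ⟨φ x, ⟨x, rfl⟩⟩ = (x : Ω)) : Good F T φ.range ψ := by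
  obtain ⟨φh, hφh, hφhP, hφhC⟩ := hφ
  have hφT : ∀ x : P, φ x ∈ T := by
    intro x
    have hres : φh.comp (Subgroup.inclusion (le_sup_left : P ≤ P ⊔ centralizerIn S T)) ∈ F.Hom P :=
      restrict_mem F le_sup_left hφh
    have h1 := hT.2 P hPT _ hres x
    rw [MonoidHom.comp_apply, hφhP] at h1
    exact h1
  have hcomm0 : ∀ {c t : Ω}, c ∈ centralizerIn S T → t ∈ T → t * c = c * t := by
    intro c t hc ht
    exact (Subgroup.mem_centralizer_iff.mp hc.2) t ht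
  have key : ∀ c ∈ centralizerIn S T, ∃ x₀ : P, ∃ w : ↥(P ⊔ centralizerIn S T),
      φh w = c ∧ (w : Ω) = c * (x₀ : Ω)⁻¹ := by
    intro c hc
    have hcmem : c ∈ P ⊔ centralizerIn S T :=
      (le_sup_right : centralizerIn S T ≤ P ⊔ centralizerIn S T) hc
    have ht : c⁻¹ * φh ⟨c, hcmem⟩ ∈ T := hφhC ⟨c, hc⟩
    have hcomm : ∀ x : P, φ x * φh ⟨c, hcmem⟩ = φh ⟨c, hcmem⟩ * φ x := by
      intro x
      have e : Subgroup.inclusion le_sup_left x * (⟨c, hcmem⟩ : ↥(P ⊔ centralizerIn S T)) =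
          ⟨c, hcmem⟩ * Subgroup.inclusion le_sup_left x :=
        Subtype.ext (hcomm0 hc (hPT x.2))
      have e2 := congrArg φh e
      rw [map_mul, map_mul, hφhP] at e2
      exact e2
    have htc : c⁻¹ * φh ⟨c, hcmem⟩ ∈ centralizerIn T φ.range := by
      refine ⟨ht, Subgroup.mem_centralizer_iff.mpr ?_⟩
      rintro _ ⟨x, rfl⟩
      have h3 : φ x * c = c * φ x := hcomm0 hc (hφT x)
      have h2 : φ x * c⁻¹ = c⁻¹ * φ x := by
        calc φ x * c⁻¹ = c⁻¹ * (c * φ x) * c⁻¹ := by group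
          _ = c⁻¹ * (φ x * c) * c⁻¹ := by rw [h3]
          _ = c⁻¹ * φ x := by group
      calc φ x * (c⁻¹ * φh ⟨c, hcmem⟩) = (φ x * c⁻¹) * φh ⟨c, hcmem⟩ := by rw [mul_assoc]
        _ = c⁻¹ * (φ x * φh ⟨c, hcmem⟩) := by rw [h2, mul_assoc]
        _ = c⁻¹ * φh ⟨c, hcmem⟩ * φ x := by rw [hcomm x, mul_assoc]
    obtain ⟨x₀, hx₀⟩ := MonoidHom.mem_range.mp (hcen htc)
    refine ⟨x₀, ⟨c, hcmem⟩ * (Subgroup.inclusion le_sup_left x₀)⁻¹, ?_, rfl⟩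
    rw [map_mul, map_inv, hφhP, hx₀]
    group
  have hle : φ.range ⊔ centralizerIn S T ≤ φh.range := by
    refine sup_le ?_ ?_
    · rintro _ ⟨x, rfl⟩
      exact ⟨Subgroup.inclusion le_sup_left x, hφhP x⟩
    · intro c hc
      obtain ⟨x₀, w, hw, -⟩ := key c hc
      exact ⟨w, hw⟩
  obtain ⟨θ, hθ, hθinv⟩ := F.inv_mem hφh
  refine ⟨θ.comp (Subgroup.inclusion hle), restrict_mem F hle hθ, ?_, ?_⟩
  · rintro ⟨_, x, rfl⟩
    have e1 : (θ.comp (Subgroup.inclusion hle))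
        (Subgroup.inclusion le_sup_left (⟨φ x, ⟨x, rfl⟩⟩ : ↥φ.range)) =
        θ ⟨φh (Subgroup.inclusion le_sup_left x), ⟨_, rfl⟩⟩ :=
      hom_congr_val θ _ _ (hφhP x).symm
    rw [e1, hθinv, hinv x]
    rfl
  · intro c
    obtain ⟨x₀, w, hw, hwv⟩ := key (c : Ω) c.2
    have h5 : (θ.comp (Subgroup.inclusion hle)) (Subgroup.inclusion le_sup_right c) = (w : Ω) := by
      rw [← hθinv w]
      exact hom_congr_val θ _ _ hw.symm
    rw [h5, hwv]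
    have e3 : (c : Ω)⁻¹ * ((c : Ω) * (x₀ : Ω)⁻¹) = (x₀ : Ω)⁻¹ := by group
    rw [e3]
    exact T.inv_mem (hPT x₀.2)

end Cfsg.Agent.Helper8.WNO
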