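import Mathlib
import Cfsg.Agent.Lib.WNO.WNOEDefs
import Cfsg.Agent.Lib.WNO.WNOEGood
import Cfsg.Agent.Lib.WNO.WNOEComp
import Cfsg.Agent.Lib.WNO.WNOEInv
import Cfsg.Agent.Lib.WNO.WNOECen
import Cfsg.Agent.Lib.Helper25.FusionAlperin2

/-!
# S5141 farm (design helper8), piece WNOE-XN (MEDIUM): the truncated subsystem `XN F E hinv n` of `E`

`XN.Hom P = {φ ∈ E.Hom P | PrN F E n P φ}`, `PrN F E n P φ := E.IsCentric P → n < Nat.card P → Good F T P φ`.
To prove: the two closure lemmas `prN_comp`, `prN_inv` (the `sorry`s below).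
* `prN_comp`: assume `P` centric, `n < card P`.  `Good φ` (`h1`).  `φ.range` is centric
  (`Helper25.isCentric_of_isConj E hPc ⟨φ, hφ, rfl⟩`), `φ.range ≤ Q ≤ T`, so `Q` is centric
  (`Helper25.isCentric_of_le`); `card P = card φ.range ≤ card Q` (`Nat.card_congr (Helper25.homEquiv E hφ).toEquiv`,
  `Subgroup.card_le_of_le`, `Q` finite by `Helper25.finite_of_le_finite`), so `Good ψ` (`h2`).
  `good_comp F hinv.2.1 hPc.1 hQT h (cen_range_le E hPc hφ)`.
* `prN_inv`: assume `φ.range` centric, `n < card φ.range`.  `P` is centric: `E.IsConj φ.range P` via `ψ`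
  (`ψ.range = P` from `hi`).  `card P = card φ.range`.  `Good φ` by `h1`; `good_inv` with
  `hcen := hRc.2 φ.range (Helper25.isConj_refl E hRc.1)`.
Keep statements, names, namespace exactly; you may add imports; aux names with prefix `wnoexn_`.
-/

set_option autoImplicit false

namespace Cfsg.Agent.Helper8.WNO

open Cfsg Cfsg.FusionSystem Cfsg.Agent.Helper25

variable {Ω : Type*} [Group Ω] {S : Subgroup Ω}

theorem prN_conj (F : FusionSystem S) {T : Subgroup Ω} (E : FusionSystem T) (hTS : T ≤ S) (n : ℕ)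
    {P : Subgroup Ω} {g : Ω} (hP : P ≤ T) (hg : g ∈ T) : PrN F E n P (conjHom P g) :=
  fun _ _ => good_conjHom F hTS hP hg

theorem prN_comp [Finite S] (F : FusionSystem S) {T : Subgroup Ω} (E : FusionSystem T)
    (hinv : E.IsInvariantIn F) (n : ℕ) {P Q : Subgroup Ω} {φ : P →* Ω} {ψ : Q →* Ω}
    (hφ : φ ∈ E.Hom P) (hψ : ψ ∈ E.Hom Q) (h1 : PrN F E n P φ) (h2 : PrN F E n Q ψ)
    (h : ∀ x : P, φ x ∈ Q) : PrN F E n P (ψ.comp (φ.codRestrict Q h)) := by
  intro hPc hn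
  have hQT : Q ≤ T := (E.le_of_mem hψ).1
  have hTS : T ≤ S := hinv.2.1.1
  have : Finite ↥T := finite_of_le_finite hTS
  have : Finite ↥Q := finite_of_le_finite hQT
  have hRc : E.IsCentric φ.range := isCentric_of_isConj E hPc ⟨φ, hφ, rfl⟩
  have hRQ : φ.range ≤ Q := by
    rintro _ ⟨x, rfl⟩
    exact h x
  have hQc : E.IsCentric Q := isCentric_of_le E hRc hRQ hQT
  have hcard : Nat.card ↥P = Nat.card ↥φ.range := Nat.card_congr (homEquiv E hφ).toEquiv
  have hle : Nat.card ↥φ.range ≤ Nat.card ↥Q := Subgroup.card_le_of_le hRQ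
  have hnQ : n < Nat.card ↥Q := lt_of_lt_of_le (hcard ▸ hn) hle
  exact good_comp F hinv.2.1 hPc.1 hQT h (cen_range_le E hPc hφ) (h1 hPc hn) (h2 hQc hnQ)

theorem prN_inv [Finite S] (F : FusionSystem S) {T : Subgroup Ω} (E : FusionSystem T)
    (hinv : E.IsInvariantIn F) (n : ℕ) {P : Subgroup Ω} {φ : P →* Ω} (hφ : φ ∈ E.Hom P)
    (h1 : PrN F E n P φ) (ψ : φ.range →* Ω) (hψ : ψ ∈ E.Hom φ.range)
    (hi : ∀ x : P, ψ ⟨φ x, ⟨x, rfl⟩⟩ = (x : Ω)) : PrN F E n φ.range ψ := by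
  intro hRc hn
  have hPT : P ≤ T := (E.le_of_mem hφ).1
  have hrange : ψ.range = P := by
    ext y
    constructor
    · rintro ⟨⟨_, x, rfl⟩, rfl⟩
      rw [hi x]
      exact x.2
    · intro hy
      exact ⟨⟨φ ⟨y, hy⟩, ⟨y, hy⟩, rfl⟩, hi ⟨y, hy⟩⟩
  have hPc : E.IsCentric P := isCentric_of_isConj E hRc ⟨ψ, hψ, hrange⟩
  have hcard : Nat.card ↥P = Nat.card ↥φ.range := Nat.card_congr (homEquiv E hφ).toEquiv
  have hnP : n < Nat.card ↥P := hcard ▸ hn
  exact good_inv F hinv.2.1 hPT (hRc.2 φ.range (isConj_refl E hRc.1)) (h1 hPc hnP) ψ hi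

/-- The maps of `E` that are `Good` on `E`-centric sources of order `> n`. -/
def XN [Finite S] (F : FusionSystem S) {T : Subgroup Ω} (E : FusionSystem T)
    (hinv : E.IsInvariantIn F) (n : ℕ) : FusionSystem T :=
  predSub E (PrN F E n) (fun hP hg => prN_conj F E hinv.2.1.1 n hP hg)
    (fun hφ hψ h1 h2 h => prN_comp F E hinv n hφ hψ h1 h2 h)
    (fun hφ h1 ψ hψ hi => prN_inv F E hinv n hφ h1 ψ hψ hi)

theorem mem_XN [Finite S] (F : FusionSystem S) {T : Subgroup Ω} (E : FusionSystem T)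
    (hinv : E.IsInvariantIn F) (n : ℕ) {P : Subgroup Ω} {φ : P →* Ω} :
    φ ∈ (XN F E hinv n).Hom P ↔ φ ∈ E.Hom P ∧ PrN F E n P φ := Iff.rfl

end Cfsg.Agent.Helper8.WNO
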