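import Mathlib
import Cfsg.Agent.Lib.WNO.WNOEXn
import Cfsg.Agent.S5114

/-!
# S5141 farm (design helper8), piece WNOE-FRAT (SHORT-MEDIUM): size-refined Frattini factorisation

`OPn F E p n` says `XN F E hinv n` contains `O^{p'}(Aut_E(P))` for every `E`-centric `P`; `S5114.result`
(for the pair `XN ≤ E` over `T`) then factors every map of `E` as `β ∘ ψ₀`, `β ∈ Aut_E(T)`, `ψ₀ ∈ XN`.

Recipe: `hTp : IsPGroup p T := hS.to_le hTS`, `Finite T`.
`obtain ⟨-, hdec, -⟩ := Cfsg.Agent.S5114.result p hTp E hEsat (XN F E hinv n) (fun _ _ h => h.1) hop'` where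
`hop' P hPc` : `show OpPrime E p P ≤ _; rw [OpPrime_eq_closure]; closure_le`; for `γ ∈ Aut_E(P)` of order `p ^ k`:
`(mem_autGroup_iff (XN ..) hPc.1 γ).mpr ⟨(mem_autGroup_iff E hPc.1 γ).mp hγ, fun hc hn => hop P hc hn γ hγ k hk⟩`.
Then `hdec R ψ hψ` gives `β, ψ₀ ∈ XN.Hom R` (`.1`: in `E`, `.2`: `PrN`) and the factorisation.
(See `Lib/OPE/OPEAdm.lean` for the same use of S5114.)
Keep statement, name, namespace exactly; you may add imports; aux names with prefix `wnoefrat_`.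
-/

set_option autoImplicit false

namespace Cfsg.Agent.Helper8.WNO

open Cfsg Cfsg.FusionSystem Cfsg.Agent.Helper25

variable {Ω : Type*} [Group Ω] {S : Subgroup Ω}

theorem xn_frat [Finite S] (p : ℕ) [Fact p.Prime] (hS : IsPGroup p S) (F : FusionSystem S)
    {T : Subgroup Ω} (E : FusionSystem T) (hEsat : E.IsSaturated p) (hinv : E.IsInvariantIn F)
    (n : ℕ) (hop : OPn F E p n) {R : Subgroup Ω} {ψ : R →* Ω} (hψ : ψ ∈ E.Hom R) :
    ∃ β ∈ E.autGroup T, ∃ ψ₀ ∈ E.Hom R, PrN F E n R ψ₀ ∧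
      ∀ (x : R) (hx : ψ₀ x ∈ T), ψ x = ((β ⟨ψ₀ x, hx⟩ : T) : Ω) := by
  have hTS : T ≤ S := hinv.2.1.1
  have hTp : IsPGroup p T := hS.to_le hTS
  have : Finite T := Finite.of_injective (Subgroup.inclusion hTS) (Subgroup.inclusion_injective hTS)
  have hsub : (XN F E hinv n).IsSubsystemOf E := fun _ _ h => h.1
  have hop' : ∀ P : Subgroup Ω, E.IsCentric P → OpPrime E p P ≤ (XN F E hinv n).autGroup P := by
    intro P hPc
    rw [OpPrime_eq_closure, Subgroup.closure_le]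
    rintro γ ⟨hγ, k, hk⟩
    rw [SetLike.mem_coe, mem_autGroup_iff (XN F E hinv n) hPc.1 γ]
    exact (mem_XN F E hinv n).mpr
      ⟨(mem_autGroup_iff E hPc.1 γ).mp hγ, fun hc hn => hop P hc hn γ hγ k hk⟩
  obtain ⟨-, hdec, -⟩ := Cfsg.Agent.S5114.result p hTp E hEsat (XN F E hinv n) hsub hop'
  obtain ⟨β, hβ, ψ₀, hψ₀, hfac⟩ := hdec R ψ hψ
  exact ⟨β, hβ, ψ₀, hψ₀.1, hψ₀.2, hfac⟩

end Cfsg.Agent.Helper8.WNO
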