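import Mathlib

/-!
# S5141 farm (design helper8), piece WNOE-SPLIT (SHORT-MEDIUM, Mathlib only): `p`-part and `p'`-part as powers

Write `orderOf g = p ^ e * m`, `¬ p ∣ m` (`Nat.exists_eq_pow_mul_and_not_dvd`, `orderOf_pos`); `p ^ e` and `m` are coprime;
CRT (`Nat.chineseRemainder`) gives `a ≡ 1 [MOD p ^ e]`, `a ≡ 0 [MOD m]` and `b ≡ 0 [MOD p ^ e]`, `b ≡ 1 [MOD m]`.
`(g ^ a) ^ (p ^ e) = 1` (`orderOf g ∣ a * p ^ e`), so `orderOf (g ^ a) ∣ p ^ e`, hence a power of `p`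
(`(Nat.dvd_prime_pow _).mp`); `(g ^ b) ^ m = 1`, so `orderOf (g ^ b) ∣ m`, coprime to `p`;
`a + b ≡ 1 [MOD orderOf g]` (`Nat.modEq_and_modEq_iff_modEq_mul`), so `g ^ a * g ^ b = g ^ (a + b) = g`
(`pow_eq_pow_iff_modEq`).
Keep statement, name, namespace exactly; aux names with prefix `wnoesplit_`.
-/

set_option autoImplicit false

namespace Cfsg.Agent.Helper8.WNO

theorem exists_p_pprime_split {G : Type*} [Group G] [Finite G] (g : G) (p : ℕ) [Fact p.Prime] :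
    ∃ a b : ℕ, (∃ k : ℕ, orderOf (g ^ a) = p ^ k) ∧ (orderOf (g ^ b)).Coprime p ∧
      g ^ a * g ^ b = g := by
  sorry

end Cfsg.Agent.Helper8.WNO
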