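import Mathlib
import Cfsg.Agent.Lib.WNO.WNOEDefs
import Cfsg.Agent.Lib.WNO.WNOEGood
import Cfsg.Agent.Lib.WNO.WNOEComp
import Cfsg.Agent.Lib.WNO.WNOEInv
import Cfsg.Agent.Lib.WNO.WNOECen
import Cfsg.Agent.Lib.WNO.WNOEFrat
import Cfsg.Agent.Lib.WNO.WNOESplit
import Cfsg.Agent.Lib.WNO.WNORigid
import Cfsg.Agent.Lib.Helper3.WClos1
import Cfsg.Agent.Lib.CSE.CSEBasic

/-!
# S5141 farm (design helper8), pieces WNOE-EXTB (MEDIUM-LONG) and WNOE-EXT (MEDIUM-LONG)

(WNOE-EXTB) `aut_good_of_res`: `β ∈ Aut_E(T)` whose restriction to an `E`-centric `Q` is `Good`, is `Good`.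
  `exists_p_pprime_split β p` gives `βp := β ^ a` (order `p ^ k`), `βq := β ^ b` (order prime to `p`), `βp * βq = β`;
  both in `E.autGroup T` (`Subgroup.pow_mem`).  `T` is `E`-centric (`Helper3.WC.isCentric_self E`), `0 < Nat.card T`.
  - `βp⁻¹ ∈ E.autGroup T` has order `p ^ k` (`orderOf_inv`), so `Good F T T (T.subtype.comp βp⁻¹.toMonoidHom)` by `hop`.
  - `φ := (T.subtype.comp β.toMonoidHom).comp (Subgroup.inclusion hQc.1) ∈ E.Hom Q` (`Helper25.mem_autGroup_iff`,
    `Helper25.restrict_mem`), `Good` by `hres`; `good_comp` (`P := Q`, `Q := T`, `hcen := cen_range_le E hQc hφ`) gives `Good`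
    for `(T.subtype.comp βp⁻¹.toMonoidHom).comp (φ.codRestrict T _)`, which equals
    `(T.subtype.comp βq.toMonoidHom).comp (Subgroup.inclusion hQc.1)` by `ext` (`βp⁻¹ (β x) = βq x`).
  - `rigid p hS F hF hinv.2.1 (tCen_of_isCentric F E hinv hQc) βq _ hcoprime _` (`βq ∈ F.autGroup T` by
    `Helper3.CSE.autGroup_le_of_subsystem`) gives `Good F T T (T.subtype.comp βq.toMonoidHom)`.
  - `βp` is `Good` by `hop`; `good_comp` (`P := T`, `Q := T`, `φ := T.subtype.comp βq.toMonoidHom ∈ E.Hom T`,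
    `hcen := cen_range_le E (isCentric_self E) _`) gives `Good` for the composite, equal to `T.subtype.comp β.toMonoidHom`.
(WNOE-EXT) `ext_good`: `ψ ∈ E.Hom R`, `P ≤ R` `E`-centric, `ψ|P` `Good` ⟹ `ψ` `Good`.
  `xn_frat p hS F E hEsat hinv 0 hop hψ`: `ψ x = β ⟨ψ₀ x, _⟩`, `β ∈ Aut_E(T)`, `ψ₀ ∈ E.Hom R`, `PrN F E 0 R ψ₀`.  `R` is centric
  (`Helper25.isCentric_of_le E hPc hPR (E.le_of_mem hψ).1`), `0 < card R`, so `Good ψ₀`; `μ := ψ₀.comp (inclusion hPR)` is `Good`
  (`good_restrict`) and in `E.Hom P`; `μ.range` is centric.  Inverse `κ ∈ E.Hom μ.range` of `μ` (`E.inv_mem`), `Good` by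
  `good_inv` (`hcen := cen_range_le E hPc hμ`); `good_comp` (`P := μ.range`, `Q := P`, `φ := κ`, `ψ := ψ.comp (inclusion hPR)`,
  `hcen := cen_range_le E hμc hκ`) gives `Good` for a map equal (by `ext`) to
  `(T.subtype.comp β.toMonoidHom).comp (Subgroup.inclusion hμc.1)`.  `aut_good_of_res` gives `Good` for `β`; finally `good_comp`
  (`P := R`, `Q := T`, `φ := ψ₀`, `hcen := cen_range_le E hRc hψ₀`) gives `Good` for a map equal to `ψ`.
Keep statements, names, namespace exactly; you may add imports; aux names with prefix `wnoeext_`.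
-/

set_option autoImplicit false

namespace Cfsg.Agent.Helper8.WNO

open Cfsg Cfsg.FusionSystem Cfsg.Agent.Helper25 Cfsg.Agent.Helper3

variable {Ω : Type*} [Group Ω] {S : Subgroup Ω}

theorem aut_good_of_res [Finite S] (p : ℕ) [Fact p.Prime] (hS : IsPGroup p S) (F : FusionSystem S)
    (hF : F.IsSaturated p) {T : Subgroup Ω} (E : FusionSystem T) (hEsat : E.IsSaturated p)
    (hinv : E.IsInvariantIn F) (hop : OPn F E p 0) {Q : Subgroup Ω} (hQc : E.IsCentric Q)
    (β : MulAut T) (hβ : β ∈ E.autGroup T)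
    (hres : Good F T Q ((T.subtype.comp β.toMonoidHom).comp (Subgroup.inclusion hQc.1))) :
    Good F T T (T.subtype.comp β.toMonoidHom) := by
  have hTS : T ≤ S := hinv.2.1.1
  have hT : F.StronglyClosed T := hinv.2.1
  have hTfin : Finite T :=
    Finite.of_injective (Subgroup.inclusion hTS) (Subgroup.inclusion_injective hTS)
  have hTc : E.IsCentric T := Cfsg.Agent.Helper3.WC.isCentric_self E
  have hcardT : 0 < Nat.card T := Nat.card_pos
  obtain ⟨a, b, ⟨k, hk⟩, hco, hsplit⟩ := exists_p_pprime_split β p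
  have hβp : β ^ a ∈ E.autGroup T := pow_mem hβ a
  have hβq : β ^ b ∈ E.autGroup T := pow_mem hβ b
  have hβpinv : (β ^ a)⁻¹ ∈ E.autGroup T := inv_mem hβp
  have hGpinv : Good F T T (T.subtype.comp ((β ^ a)⁻¹).toMonoidHom) :=
    hop T hTc hcardT _ hβpinv k (by rw [orderOf_inv]; exact hk)
  have hGp : Good F T T (T.subtype.comp (β ^ a).toMonoidHom) := hop T hTc hcardT _ hβp k hk
  have hφE : (T.subtype.comp β.toMonoidHom).comp (Subgroup.inclusion hQc.1) ∈ E.Hom Q :=
    restrict_mem E hQc.1 ((mem_autGroup_iff E le_rfl β).mp hβ)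
  have hφQ : ∀ x : Q, ((T.subtype.comp β.toMonoidHom).comp (Subgroup.inclusion hQc.1)) x ∈ T :=
    fun x => (β (Subgroup.inclusion hQc.1 x)).2
  have hG1 := good_comp F hT hQc.1 le_rfl hφQ (cen_range_le E hQc hφE) hres hGpinv
  have e1 : (T.subtype.comp ((β ^ a)⁻¹).toMonoidHom).comp
      (((T.subtype.comp β.toMonoidHom).comp (Subgroup.inclusion hQc.1)).codRestrict T hφQ) =
      (T.subtype.comp (β ^ b).toMonoidHom).comp (Subgroup.inclusion hQc.1) := by
    apply MonoidHom.ext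
    intro x
    have h0 : (β ^ a)⁻¹ * β = β ^ b := by
      rw [inv_mul_eq_iff_eq_mul]
      exact hsplit.symm
    show ((((β ^ a)⁻¹ * β) (Subgroup.inclusion hQc.1 x) : T) : Ω) =
      (((β ^ b) (Subgroup.inclusion hQc.1 x) : T) : Ω)
    rw [h0]
  rw [e1] at hG1
  have hβqF : β ^ b ∈ F.autGroup T :=
    Cfsg.Agent.Helper3.CSE.autGroup_le_of_subsystem E F hinv.1 hTS le_rfl hβq
  have hGq : Good F T T (T.subtype.comp (β ^ b).toMonoidHom) :=
    rigid p hS F hF hT (tCen_of_isCentric F E hinv hQc) (β ^ b) hβqF hco hG1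
  have hψE : T.subtype.comp (β ^ b).toMonoidHom ∈ E.Hom T :=
    (mem_autGroup_iff E le_rfl _).mp hβq
  have hψT : ∀ x : T, (T.subtype.comp (β ^ b).toMonoidHom) x ∈ T := fun x => ((β ^ b) x).2
  have hG2 := good_comp F hT le_rfl le_rfl hψT (cen_range_le E hTc hψE) hGq hGp
  have e2 : (T.subtype.comp (β ^ a).toMonoidHom).comp
      ((T.subtype.comp (β ^ b).toMonoidHom).codRestrict T hψT) =
      T.subtype.comp β.toMonoidHom := by
    apply MonoidHom.ext
    intro x
    show ((((β ^ a) * (β ^ b)) x : T) : Ω) = ((β x : T) : Ω)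
    rw [hsplit]
  rw [e2] at hG2
  exact hG2

theorem ext_good [Finite S] (p : ℕ) [Fact p.Prime] (hS : IsPGroup p S) (F : FusionSystem S)
    (hF : F.IsSaturated p) {T : Subgroup Ω} (E : FusionSystem T) (hEsat : E.IsSaturated p)
    (hinv : E.IsInvariantIn F) (hop : OPn F E p 0) {R : Subgroup Ω} {ψ : R →* Ω}
    (hψ : ψ ∈ E.Hom R) {P : Subgroup Ω} (hPR : P ≤ R) (hPc : E.IsCentric P)
    (hres : Good F T P (ψ.comp (Subgroup.inclusion hPR))) : Good F T R ψ := by
  sorry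

end Cfsg.Agent.Helper8.WNO
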