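import Mathlib
import Cfsg.Agent.Lib.WNO.WNOEGood
import Cfsg.Agent.Lib.WNO.WNORLift
import Cfsg.Agent.Lib.CSE.CSEExtQ
import Cfsg.Agent.Lib.Helper25.FusionSat3
import Cfsg.Agent.Lib.Helper16.PPowNormal3

/-!
# S5141 farm (design helper8), piece WNOE-AUT (MEDIUM-LONG): `Good` pulls back along `a ∈ Aut_F(T)`

`a ∈ Aut_F(T)`, `φ` on `P ≤ T` with values in `T`, `χ` on `aP := (P.subgroupOf T).map (T.subtype.comp a.toMonoidHom)`
with `χ (a x) = a (φ x)`.  If `χ` is `Good` then `φ` is `Good`.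

Recipe.  `T` strongly closed, so fully normalized (`Helper16.PPowNormal.isFullyNormalized_of_stronglyClosed`) and
receptive (`Helper25.of_fullyNormalized`); `Helper3.CSE.exists_ext_rc` gives `ah ∈ Aut_F(T ⊔ K)` with
`ah (incl x) = a x` (`K := centralizerIn S T`); `ah` and `ah⁻¹` map `K` into `K` (`aut_cen_mem`).
Witness `χh ∈ F.Hom (aP ⊔ K)` of `Good χ`.
* `m₁ := ah` restricted to `P ⊔ K`, values in `aP ⊔ K` (`Helper3.CSE.cseextq_sup_mem`): `ah x = a x ∈ aP`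
  (`Helper25.mem_map_aut`), `ah c ∈ K`.
* `χh` maps `aP ⊔ K` into `T ⊔ K`: `χh (a x) = a (φ x) ∈ T`; `χh c = c * (c⁻¹ * χh c) ∈ K T`.
* `m₃ := (T ⊔ K).subtype.comp ah⁻¹.toMonoidHom ∈ F.Hom (T ⊔ K)` (`Helper25.mem_autGroup_iff`, `Subgroup.inv_mem`).
* witness `φh := m₃ ∘ χh ∘ m₁` (two `F.comp_mem`).  On `x ∈ P`: `ah⁻¹ (a (φ x)) = φ x`.  On `c ∈ K`:
  `c'' := ah c ∈ K`, `χh c'' = c'' * t`, `t ∈ T`, `ah⁻¹ (c'' * t) = c * a⁻¹ t`, so `c⁻¹ * φh c = a⁻¹ t ∈ T`.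
Keep statement, name, namespace exactly; you may add imports; aux names with prefix `wnoeaut_`.
-/

set_option autoImplicit false

namespace Cfsg.Agent.Helper8.WNO

open Cfsg Cfsg.FusionSystem Cfsg.Agent.Helper25 Cfsg.Agent.Helper3

variable {Ω : Type*} [Group Ω] {S : Subgroup Ω}

theorem good_of_aut_conj [Finite S] (p : ℕ) [Fact p.Prime] (hS : IsPGroup p S) (F : FusionSystem S)
    (hF : F.IsSaturated p) {T P : Subgroup Ω} (hT : F.StronglyClosed T) (hPT : P ≤ T)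
    (a : MulAut T) (ha : a ∈ F.autGroup T) {φ : P →* Ω} (hφT : ∀ x, φ x ∈ T)
    (χ : ↥((P.subgroupOf T).map (T.subtype.comp a.toMonoidHom)) →* Ω)
    (hχ : ∀ x : P, χ ⟨((a ⟨x, hPT x.2⟩ : T) : Ω), mem_map_aut hPT a x⟩ = ((a ⟨φ x, hφT x⟩ : T) : Ω))
    (hg : Good F T ((P.subgroupOf T).map (T.subtype.comp a.toMonoidHom)) χ) : Good F T P φ := by
  classical
  have hTS : T ≤ S := hT.1
  have hCS : centralizerIn S T ≤ S := fun g hg => (mem_centralizerIn.1 hg).1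
  have hQS : T ⊔ centralizerIn S T ≤ S := sup_le hTS hCS
  have hfn : F.IsFullyNormalized T :=
    Cfsg.Agent.Helper16.PPowNormal.isFullyNormalized_of_stronglyClosed F hT
  have hrec : F.IsReceptive T := (of_fullyNormalized p hS F hF hfn).2.2
  obtain ⟨ah, hah, hahx⟩ := CSE.exists_ext_rc F hrec a ha
  have hm : (T ⊔ centralizerIn S T).subtype.comp ah.toMonoidHom ∈ F.Hom (T ⊔ centralizerIn S T) :=
    (mem_autGroup_iff F hQS ah).1 hah
  have hm3 : (T ⊔ centralizerIn S T).subtype.comp (ah⁻¹ : MulAut _).toMonoidHom ∈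
      F.Hom (T ⊔ centralizerIn S T) := (mem_autGroup_iff F hQS ah⁻¹).1 (inv_mem hah)
  have hPK : P ⊔ centralizerIn S T ≤ T ⊔ centralizerIn S T := sup_le_sup_right hPT _
  have hm1 := restrict_mem F hPK hm
  obtain ⟨χh, hχh, hχx, hχc⟩ := hg
  -- values of `m₁`
  have h1P : ∀ (x : Ω) (hx : x ∈ P),
      (((T ⊔ centralizerIn S T).subtype.comp ah.toMonoidHom).comp (Subgroup.inclusion hPK))
        ⟨x, (le_sup_left : P ≤ P ⊔ centralizerIn S T) hx⟩ = ((a ⟨x, hPT hx⟩ : T) : Ω) := by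
    intro x hx
    exact hahx ⟨x, hPT hx⟩
  have h1K : ∀ (c : Ω) (hc : c ∈ centralizerIn S T),
      (((T ⊔ centralizerIn S T).subtype.comp ah.toMonoidHom).comp (Subgroup.inclusion hPK))
        ⟨c, (le_sup_right : centralizerIn S T ≤ P ⊔ centralizerIn S T) hc⟩ ∈ centralizerIn S T := by
    intro c hc
    exact aut_cen_mem F hT ah hah ⟨c, hc⟩
  have h1 : ∀ z : ↥(P ⊔ centralizerIn S T),
      (((T ⊔ centralizerIn S T).subtype.comp ah.toMonoidHom).comp (Subgroup.inclusion hPK)) z ∈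
        (P.subgroupOf T).map (T.subtype.comp a.toMonoidHom) ⊔ centralizerIn S T := by
    apply CSE.cseextq_sup_mem
    · intro x hx
      rw [h1P x hx]
      exact (le_sup_left : _ ≤ (P.subgroupOf T).map (T.subtype.comp a.toMonoidHom) ⊔ centralizerIn S T)
        (mem_map_aut hPT a ⟨x, hx⟩)
    · intro c hc
      exact (le_sup_right : _ ≤ (P.subgroupOf T).map (T.subtype.comp a.toMonoidHom) ⊔ centralizerIn S T)
        (h1K c hc)
  -- values of `χh`
  have h2P : ∀ (y : Ω) (hy : y ∈ (P.subgroupOf T).map (T.subtype.comp a.toMonoidHom)),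
      ∃ x : P, y = ((a ⟨x, hPT x.2⟩ : T) : Ω) ∧
      χh ⟨y, (le_sup_left : _ ≤ (P.subgroupOf T).map (T.subtype.comp a.toMonoidHom) ⊔
        centralizerIn S T) hy⟩ = ((a ⟨φ x, hφT x⟩ : T) : Ω) := by
    intro y hy
    obtain ⟨t, ht, hty⟩ := id hy
    subst hty
    refine ⟨⟨t, Subgroup.mem_subgroupOf.mp ht⟩, rfl, ?_⟩
    have e1 := hχx ⟨((a t : T) : Ω), hy⟩
    have e2 := hχ ⟨t, Subgroup.mem_subgroupOf.mp ht⟩
    exact e1.trans e2
  have h2 : ∀ z : ↥((P.subgroupOf T).map (T.subtype.comp a.toMonoidHom) ⊔ centralizerIn S T),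
      χh z ∈ T ⊔ centralizerIn S T := by
    apply CSE.cseextq_sup_mem
    · intro y hy
      obtain ⟨x, -, hx⟩ := h2P y hy
      rw [hx]
      exact (le_sup_left : T ≤ T ⊔ centralizerIn S T) (a ⟨φ x, hφT x⟩ : T).2
    · intro c hc
      have hc' := hχc ⟨c, hc⟩
      have : χh ⟨c, (le_sup_right : _ ≤ (P.subgroupOf T).map (T.subtype.comp a.toMonoidHom) ⊔
          centralizerIn S T) hc⟩ = c * (c⁻¹ * χh ⟨c, (le_sup_right : _ ≤
          (P.subgroupOf T).map (T.subtype.comp a.toMonoidHom) ⊔ centralizerIn S T) hc⟩) := by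
        rw [mul_inv_cancel_left]
      rw [this]
      exact mul_mem ((le_sup_right : centralizerIn S T ≤ T ⊔ centralizerIn S T) hc)
        ((le_sup_left : T ≤ T ⊔ centralizerIn S T) hc')
  have key : ∀ (w : ↥(T ⊔ centralizerIn S T)) (t : T), (w : Ω) = ((a t : T) : Ω) →
      (((ah⁻¹ : MulAut _) w : ↥(T ⊔ centralizerIn S T)) : Ω) = t := by
    intro w t hwt
    have : w = ah (Subgroup.inclusion le_sup_left t) := Subtype.ext (hwt.trans (hahx t).symm)
    rw [this, MulAut.inv_apply_self]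
    rfl
  have hcomp := F.comp_mem (F.comp_mem hm1 hχh h1) hm3 (fun x => h2 _)
  refine ⟨_, hcomp, ?_, ?_⟩
  · intro x
    have hz : χh ⟨_, h1 (Subgroup.inclusion le_sup_left x)⟩ = ((a ⟨φ x, hφT x⟩ : T) : Ω) := by
      have e0 : (⟨_, h1 (Subgroup.inclusion le_sup_left x)⟩ :
          ↥((P.subgroupOf T).map (T.subtype.comp a.toMonoidHom) ⊔ centralizerIn S T)) =
          Subgroup.inclusion le_sup_left
            ⟨((a ⟨x, hPT x.2⟩ : T) : Ω), mem_map_aut hPT a x⟩ := Subtype.ext (h1P x.1 x.2)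
      rw [e0, hχx, hχ]
    exact key _ ⟨φ x, hφT x⟩ hz
  · intro c
    have hc'' : ((ah (Subgroup.inclusion le_sup_right c) : ↥(T ⊔ centralizerIn S T)) : Ω) ∈
        centralizerIn S T := aut_cen_mem F hT ah hah c
    have ht := hχc ⟨_, hc''⟩
    have hw : (⟨χh ⟨_, h1 (Subgroup.inclusion le_sup_right c)⟩,
        h2 ⟨_, h1 (Subgroup.inclusion le_sup_right c)⟩⟩ : ↥(T ⊔ centralizerIn S T)) =
        ah (Subgroup.inclusion le_sup_right c) * Subgroup.inclusion le_sup_left ⟨_, ht⟩ := by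
      apply Subtype.ext
      show χh ⟨_, h1 (Subgroup.inclusion le_sup_right c)⟩ =
        ((ah (Subgroup.inclusion le_sup_right c) : ↥(T ⊔ centralizerIn S T)) : Ω) *
          (((ah (Subgroup.inclusion le_sup_right c) : ↥(T ⊔ centralizerIn S T)) : Ω)⁻¹ *
            χh (Subgroup.inclusion le_sup_right ⟨_, hc''⟩))
      rw [mul_inv_cancel_left]
      rfl
    have hT' : (((ah⁻¹ : MulAut _) (Subgroup.inclusion le_sup_left ⟨_, ht⟩) :
        ↥(T ⊔ centralizerIn S T)) : Ω) ∈ T :=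
      hT.2 T le_rfl _ (restrict_mem F le_sup_left hm3) ⟨_, ht⟩
    show (c : Ω)⁻¹ * (((ah⁻¹ : MulAut _) ⟨χh ⟨_, h1 (Subgroup.inclusion le_sup_right c)⟩,
        h2 ⟨_, h1 (Subgroup.inclusion le_sup_right c)⟩⟩ : ↥(T ⊔ centralizerIn S T)) : Ω) ∈ T
    rw [hw, map_mul, MulAut.inv_apply_self]
    show (c : Ω)⁻¹ * ((c : Ω) * _) ∈ T
    rw [inv_mul_cancel_left]
    exact hT'

end Cfsg.Agent.Helper8.WNO
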