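import Mathlib
import Cfsg.Agent.Lib.WNO.WNOEDefs
import Cfsg.Agent.Lib.WNO.WNOEAut
import Cfsg.Agent.Lib.Helper25.FusionPrimeIndex2
import Cfsg.Agent.Lib.Helper25.FusionInvariant

/-!
# S5141 farm (design helper8), piece WNOE-CONJ (MEDIUM): transport of `PelGood` along `a ∈ Aut_F(T)`

`aP := (P.subgroupOf T).map (T.subtype.comp a.toMonoidHom)`; `PelGood` on `aP` implies `PelGood` on `P`.
For `γ ∈ Aut_E(P)`, `orderOf γ = p ^ k`: `AutInv F E` (`(Helper25.strongInv_of_isInvariantIn hinv).autInv hTS`) applied to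
`φ := P.subtype.comp γ.toMonoidHom ∈ E.Hom P` gives `χ ∈ E.Hom aP` with `χ (a x) = a (γ x)`.
Put `γ' := MulAut.congr (Helper25.autRestr hPT a) γ : MulAut aP` (`autRestr` in `Lib/Helper25/FusionPrimeIndex2.lean`,
used with its `S` := our `T`; compare the proof of `PIX.OpPrime_le_invCore_fam` in `Lib/PIX/PIXFratA.lean`):
`aP.subtype.comp γ'.toMonoidHom = χ` by `ext` (every element of `aP` is `a x`: `Helper25.mem_map_aut_iff`), so
`γ' ∈ Aut_E(aP)` (`Helper25.mem_autGroup_iff`), `orderOf γ' = p ^ k` (`MulEquiv.orderOf_eq`); hence `Good χ` by `h'`, and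
`good_of_aut_conj` (with `φ := P.subtype.comp γ.toMonoidHom`, `hφT x := hPT (γ x).2`) gives `Good` for `γ`.
Keep statement, name, namespace exactly; you may add imports; aux names with prefix `wnoeconj_`.
-/

set_option autoImplicit false

namespace Cfsg.Agent.Helper8.WNO

open Cfsg Cfsg.FusionSystem Cfsg.Agent.Helper25 Cfsg.Agent.Helper3

variable {Ω : Type*} [Group Ω] {S : Subgroup Ω}

theorem pelGood_of_aut [Finite S] (p : ℕ) [Fact p.Prime] (hS : IsPGroup p S) (F : FusionSystem S)
    (hF : F.IsSaturated p) {T : Subgroup Ω} (E : FusionSystem T) (hinv : E.IsInvariantIn F)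
    {P : Subgroup Ω} (hPT : P ≤ T) (a : MulAut T) (ha : a ∈ F.autGroup T)
    (h' : PelGood F E p ((P.subgroupOf T).map (T.subtype.comp a.toMonoidHom))) : PelGood F E p P := by
  have hT : F.StronglyClosed T := hinv.2.1
  have hTS : T ≤ S := hT.1
  have hAI : AutInv F E := (strongInv_of_isInvariantIn hinv).autInv hTS
  intro γ hγ k hk
  have hφ : P.subtype.comp γ.toMonoidHom ∈ E.Hom P := (mem_autGroup_iff E hPT γ).mp hγ
  obtain ⟨χ, hχ, hχv⟩ := hAI ha hPT hφ
  have e : ((P.subgroupOf T).map (T.subtype.comp a.toMonoidHom)).subtype.comp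
      (MulAut.congr (autRestr hPT a) γ).toMonoidHom = χ := by
    ext y
    obtain ⟨x, hx⟩ := (mem_map_aut_iff hPT a).mp y.2
    have ey : y = autRestr hPT a x := Subtype.ext hx.symm
    rw [ey]
    show ((autRestr hPT a (γ ((autRestr hPT a).symm (autRestr hPT a x))) :
      ↥((P.subgroupOf T).map (T.subtype.comp a.toMonoidHom))) : Ω) = χ (autRestr hPT a x)
    rw [MulEquiv.symm_apply_apply]
    exact (hχv x).symm
  have hγ' : MulAut.congr (autRestr hPT a) γ ∈
      E.autGroup ((P.subgroupOf T).map (T.subtype.comp a.toMonoidHom)) := by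
    rw [mem_autGroup_iff E (map_aut_le a P), e]
    exact hχ
  have hord : orderOf (MulAut.congr (autRestr hPT a) γ) = p ^ k := by
    rw [← hk]; exact MulEquiv.orderOf_eq (MulAut.congr (autRestr hPT a)) γ
  have hgood := h' _ hγ' k hord
  rw [e] at hgood
  exact good_of_aut_conj p hS F hF hT hPT a ha (φ := P.subtype.comp γ.toMonoidHom)
    (fun x => hPT (γ x).2) χ (fun x => hχv x) hgood

end Cfsg.Agent.Helper8.WNO
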