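import Mathlib
import Cfsg.Agent.Lib.WNO.WNOEDefs
import Cfsg.Agent.Lib.WNO.WNOEGood
import Cfsg.Agent.Lib.CSE.CSELiftZConj
import Cfsg.Agent.Lib.CSE.CSELiftZInn
import Cfsg.Agent.Lib.Helper25.FusionSat3
import Cfsg.Agent.Lib.OPE.OPEOp

/-!
# S5141 farm (design helper8), piece WNOE-FN (MEDIUM): Step 1, `P` `E`-centric and fully `F`-normalized

* `isFullyNormalized_E`: COPY the block `hRfnE` in `Lib/CSX/CSXG1B.lean` (lines 45-66): it only uses
  `hinv : E.IsInvariantIn F`, `hT := hinv.2.1`, `Helper25.of_fullyNormalized`, `Helper25.exists_normalizer_map`.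
* `pelGood_fn`: `γ ∈ Aut_E(P)`, `orderOf γ = p ^ k`.  `P` is fully normalized in `E`, so fully automized in `E`
  (`Helper25.of_fullyNormalized p hTp E hEsat`), and as in `Helper25.OPE.op_mem` (`Lib/OPE/OPEOp.lean`, with `Q = P`):
  `(isFullyAutomized_iff E p hPT).mp hfa |>.exists_conj_le` gives `δ ∈ Aut_E(P)` with
  `δ * γ * δ⁻¹ ∈ autInducedBy T P`.  `Helper3.CSE.liftZ_autInducedBy F hTS hTn hPT hcen` (`hTn`: `T ⊴ S` from
  `Helper25.conj_mem_of_stronglyClosed'`, `hcen := hPc.2 P (isConj_refl ..)`) gives `LiftZ F P (δ * γ * δ⁻¹)`;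
  `P` is receptive in `F`; `Helper3.CSE.liftZ_conj F hrec (ξ := δ⁻¹) _ _` (`δ⁻¹ ∈ F.autGroup P` via
  `Helper3.CSE.autGroup_le_of_subsystem` in `Lib/CSE/CSEBasic.lean`) gives
  `LiftZ F P (δ⁻¹ * (δ * γ * δ⁻¹) * δ⁻¹⁻¹)`, which is `LiftZ F P γ` after `group`/`simp`; conclude by `good_of_liftZ`.
Keep statements, names, namespace exactly; you may add imports; aux names with prefix `wnoefn_`.
-/

set_option autoImplicit false

namespace Cfsg.Agent.Helper8.WNO

open Cfsg Cfsg.FusionSystem Cfsg.Agent.Helper25 Cfsg.Agent.Helper3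

variable {Ω : Type*} [Group Ω] {S : Subgroup Ω}

theorem isFullyNormalized_E [Finite S] (p : ℕ) [Fact p.Prime] (hS : IsPGroup p S) (F : FusionSystem S)
    (hF : F.IsSaturated p) {T : Subgroup Ω} (E : FusionSystem T) (hinv : E.IsInvariantIn F)
    {R : Subgroup Ω} (hRT : R ≤ T) (hRfn : F.IsFullyNormalized R) : E.IsFullyNormalized R := by
  have hT := hinv.2.1
  have hTS : T ≤ S := hT.1
  obtain ⟨-, hfa, hrec⟩ := of_fullyNormalized p hS F hF hRfn
  refine ⟨hRT, fun Q hQ => ?_⟩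
  obtain ⟨φ0, hφ0, hr0⟩ := hQ
  have hQF : F.IsConj R Q := ⟨φ0, hinv.1 _ hφ0, hr0⟩
  obtain ⟨φ, hφ, hφN, -, -⟩ :=
    exists_normalizer_map p hS F R Q hfa hrec (isConj_symm F hQF)
  have hNle : normalizerIn T Q ≤ normalizerIn S Q := fun g hg => ⟨hTS hg.1, hg.2⟩
  have hNT : normalizerIn T Q ≤ T := normalizerIn_le
  have hres := restrict_mem F hNle hφ
  have hvalT : ∀ g : normalizerIn T Q, φ (Subgroup.inclusion hNle g) ∈ T :=
    fun g => hT.2 _ hNT _ hres g
  have : Finite (normalizerIn T R) := finite_of_le_finite (normalizerIn_le.trans hTS)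
  refine Nat.card_le_card_of_injective (fun g : normalizerIn T Q =>
    (⟨φ (Subgroup.inclusion hNle g), ⟨hvalT g, (hφN _).2⟩⟩ : normalizerIn T R)) ?_
  intro g g' h
  have h1 : φ (Subgroup.inclusion hNle g) = φ (Subgroup.inclusion hNle g') :=
    congrArg (fun z : normalizerIn T R => (z : Ω)) h
  have h2 := F.injective_of_mem hφ h1
  exact Subgroup.inclusion_injective hNle h2

theorem pelGood_fn [Finite S] (p : ℕ) [Fact p.Prime] (hS : IsPGroup p S) (F : FusionSystem S)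
    (hF : F.IsSaturated p) {T : Subgroup Ω} (E : FusionSystem T) (hEsat : E.IsSaturated p)
    (hinv : E.IsInvariantIn F) {P : Subgroup Ω} (hPc : E.IsCentric P)
    (hPfn : F.IsFullyNormalized P) : PelGood F E p P := by
  intro γ hγ k hk
  have hT := hinv.2.1
  have hTS : T ≤ S := hT.1
  have hTp : IsPGroup p T := hS.to_le hTS
  have : Finite T := finite_of_le_finite hTS
  have hPT : P ≤ T := hPc.1
  have hPfnE := isFullyNormalized_E p hS F hF E hinv hPT hPfn
  obtain ⟨-, hfaE, -⟩ := of_fullyNormalized p hTp E hEsat hPfnE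
  obtain ⟨-, -, hrec⟩ := of_fullyNormalized p hS F hF hPfn
  have : Finite P := finite_of_le_finite (hPT.trans hTS)
  have hsyl := (isFullyAutomized_iff E p hPT).mp hfaE
  have hpz : IsPGroup p (Subgroup.zpowers γ) := by
    apply IsPGroup.of_card (n := k)
    rw [Nat.card_zpowers, hk]
  obtain ⟨δ, hδ, hle⟩ := hsyl.exists_conj_le ((Subgroup.zpowers_le).mpr hγ) hpz
  have hmem : δ * γ * δ⁻¹ ∈ Cfsg.conjBy (Subgroup.zpowers γ) δ := by
    rw [mem_conjBy]
    have : δ⁻¹ * (δ * γ * δ⁻¹) * δ = γ := by group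
    rw [this]
    exact Subgroup.mem_zpowers _
  have h1 : δ * γ * δ⁻¹ ∈ autInducedBy T P := hle hmem
  have hTn : ∀ s ∈ S, ∀ t ∈ T, s * t * s⁻¹ ∈ T :=
    fun s hs t ht => conj_mem_of_stronglyClosed F hT hs ht
  have hcen : centralizerIn T P ≤ P := hPc.2 P (isConj_refl E hPT)
  have hL := CSE.liftZ_autInducedBy F hTS hTn hPT hcen _ h1
  have hδF : δ⁻¹ ∈ F.autGroup P :=
    (mem_autGroup_iff F (hPT.trans hTS) _).2
      (hinv.1 P ((mem_autGroup_iff E hPT _).1 (Subgroup.inv_mem _ hδ)))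
  have hL2 := CSE.liftZ_conj F hrec hδF hL
  have e : δ⁻¹ * (δ * γ * δ⁻¹) * δ⁻¹⁻¹ = γ := by group
  rw [e] at hL2
  exact good_of_liftZ F hTS hPT hL2

end Cfsg.Agent.Helper8.WNO
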