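import Mathlib
import Cfsg.Agent.Lib.WNO.WNOEDefs
import Cfsg.Agent.Lib.WNO.WNOEGood
import Cfsg.Agent.Lib.WNO.WNOEComp
import Cfsg.Agent.Lib.WNO.WNOEInv
import Cfsg.Agent.Lib.WNO.WNOECen
import Cfsg.Agent.Lib.OPE.OPEOp

/-!
# S5141 farm (design helper8), piece WNOE-ISO (MEDIUM): transport of `PelGood` along a `Good` isomorphism of `E`

`ν ∈ E.Hom P` `Good`, `P` `E`-centric, `PelGood` on `ν.range`.  For `γ ∈ Aut_E(P)` with `orderOf γ = p ^ k`:
`γ₅ := MulAut.congr (Helper25.homEquiv E hν) γ ∈ Aut_E(ν.range)` (`Helper25.congr_mem_autGroup E hν hγ`), same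
order (`MulEquiv.orderOf_eq`, as in `Helper25.OPE.op_mem`), so `g₅ := ν.range.subtype.comp γ₅.toMonoidHom` is `Good`.
Let `κ ∈ E.Hom ν.range` be the inverse of `ν` (`E.inv_mem hν`); `Good κ` by `good_inv` (`hcen := cen_range_le E hPc hν`).
Then `m₁ := g₅.comp (ν.codRestrict ν.range _)` is `Good` (`good_comp`, same `hcen`), `m₁ ∈ E.Hom P` (`E.comp_mem`), its
values lie in `ν.range`, and `m₂ := κ.comp (m₁.codRestrict ν.range _)` is `Good` (`good_comp` with
`hcen := cen_range_le E hPc hm₁`).  Finally `m₂ = P.subtype.comp γ.toMonoidHom` by `ext`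
(`κ (γ₅ (ν x)) = κ (ν (γ x)) = γ x`); rewrite.
Keep statement, name, namespace exactly; you may add imports; aux names with prefix `wnoeiso_`.
-/

set_option autoImplicit false

namespace Cfsg.Agent.Helper8.WNO

open Cfsg Cfsg.FusionSystem Cfsg.Agent.Helper25 Cfsg.Agent.Helper3

variable {Ω : Type*} [Group Ω] {S : Subgroup Ω}

theorem pelGood_of_iso (p : ℕ) (F : FusionSystem S) {T : Subgroup Ω} (E : FusionSystem T)
    (hinv : E.IsInvariantIn F) {P : Subgroup Ω} (hPc : E.IsCentric P) {ν : P →* Ω}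
    (hν : ν ∈ E.Hom P) (hνg : Good F T P ν) (h5 : PelGood F E p ν.range) : PelGood F E p P := by
  intro γ hγ k hk
  have hT : F.StronglyClosed T := hinv.2.1
  have hPT : P ≤ T := hPc.1
  have hRT : ν.range ≤ T := range_le E hν
  have hcen : centralizerIn T ν.range ≤ ν.range := cen_range_le E hPc hν
  -- the transported automorphism
  have hγ5 : MulAut.congr (homEquiv E hν) γ ∈ E.autGroup ν.range := congr_mem_autGroup E hν hγ
  have hord : orderOf (MulAut.congr (homEquiv E hν) γ) = p ^ k := by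
    rw [← hk]; exact MulEquiv.orderOf_eq (MulAut.congr (homEquiv E hν)) γ
  have hg5 : Good F T ν.range
      (ν.range.subtype.comp (MulAut.congr (homEquiv E hν) γ).toMonoidHom) :=
    h5 _ hγ5 k hord
  have hg5E : ν.range.subtype.comp (MulAut.congr (homEquiv E hν) γ).toMonoidHom ∈
      E.Hom ν.range := (mem_autGroup_iff E hRT _).mp hγ5
  -- the inverse of `ν`
  have hκinv : ∀ x : P, (P.subtype.comp (homEquiv E hν).symm.toMonoidHom) ⟨ν x, ⟨x, rfl⟩⟩ =
      (x : Ω) := by
    intro x
    have e1 : (⟨ν x, ⟨x, rfl⟩⟩ : ν.range) = homEquiv E hν x := Subtype.ext rfl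
    show (((homEquiv E hν).symm ⟨ν x, ⟨x, rfl⟩⟩ : P) : Ω) = (x : Ω)
    rw [e1, MulEquiv.symm_apply_apply]
  have hκg : Good F T ν.range (P.subtype.comp (homEquiv E hν).symm.toMonoidHom) :=
    good_inv F hT hPT hcen hνg _ hκinv
  -- first composite
  have hνR : ∀ x : P, ν x ∈ ν.range := fun x => ⟨x, rfl⟩
  have hm1g : Good F T P ((ν.range.subtype.comp
      (MulAut.congr (homEquiv E hν) γ).toMonoidHom).comp (ν.codRestrict ν.range hνR)) :=
    good_comp F hT hPT hRT hνR hcen hνg hg5
  have hm1E : (ν.range.subtype.comp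
      (MulAut.congr (homEquiv E hν) γ).toMonoidHom).comp (ν.codRestrict ν.range hνR) ∈ E.Hom P :=
    E.comp_mem hν hg5E hνR
  have hm1R : ∀ x : P, ((ν.range.subtype.comp
      (MulAut.congr (homEquiv E hν) γ).toMonoidHom).comp (ν.codRestrict ν.range hνR)) x ∈
      ν.range := fun x => Subtype.property _
  have hm2g := good_comp F hT hPT hRT hm1R (cen_range_le E hPc hm1E) hm1g hκg
  have heq : (P.subtype.comp (homEquiv E hν).symm.toMonoidHom).comp
      (((ν.range.subtype.comp (MulAut.congr (homEquiv E hν) γ).toMonoidHom).comp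
        (ν.codRestrict ν.range hνR)).codRestrict ν.range hm1R) =
      P.subtype.comp γ.toMonoidHom := by
    ext x
    show (((homEquiv E hν).symm ⟨((MulAut.congr (homEquiv E hν) γ)
      (ν.codRestrict ν.range hνR x) : ν.range), _⟩ : P) : Ω) = ((γ x : P) : Ω)
    have e1 : (ν.codRestrict ν.range hνR x : ν.range) = homEquiv E hν x := Subtype.ext rfl
    have e2 : (MulAut.congr (homEquiv E hν) γ) (homEquiv E hν x) = homEquiv E hν (γ x) := by
      show homEquiv E hν (γ ((homEquiv E hν).symm (homEquiv E hν x))) = _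
      rw [MulEquiv.symm_apply_apply]
    have e3 : (⟨((MulAut.congr (homEquiv E hν) γ) (ν.codRestrict ν.range hνR x) : ν.range),
        hm1R x⟩ : ν.range) = homEquiv E hν (γ x) := by
      apply Subtype.ext
      show (((MulAut.congr (homEquiv E hν) γ) (ν.codRestrict ν.range hνR x) : ν.range) : Ω) = _
      rw [e1, e2]
    rw [e3, MulEquiv.symm_apply_apply]
  rw [heq] at hm2g
  exact hm2g

end Cfsg.Agent.Helper8.WNO
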