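import Mathlib
import Cfsg.Agent.Lib.WNO.WNOEDefs
import Cfsg.Agent.Lib.WNO.WNOEGood
import Cfsg.Agent.Lib.WNO.WNOECen
import Cfsg.Agent.Lib.WNO.WNOEFrat
import Cfsg.Agent.Lib.CSE.CSEFnMap
import Cfsg.Agent.Lib.CSE.CSEBasic

/-!
# S5141 farm (design helper8), piece WNOE-MOVE (MEDIUM-LONG): moving a centric `P < T` to a fully normalized subgroup

`P` `E`-centric, `P ≠ T`, `Nat.card P = n + 1`, `OPn F E p (n + 1)`.  Then there are a `Good` map `μ ∈ E.Hom P` and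
`a ∈ Aut_F(T)` such that `a(μ P)` is fully `F`-normalized.

Recipe.  `N := normalizerIn T P`; `P ≤ N ≤ T`, `Nat.card P < Nat.card N` (`Helper3.CSE.card_lt_normalizerIn`, `T` a
finite `p`-group); `N` is `E`-centric (`Helper25.isCentric_of_le`).  `Helper3.CSE.exists_fn_map p hS F hF (R := P)` gives
`P'` fully normalized and `φ ∈ F.Hom (normalizerIn S P)` with `(P.subgroupOf _).map φ = P'`.
`ν := φ.comp (Subgroup.inclusion (_ : N ≤ normalizerIn S P)) ∈ F.Hom N` (`Helper25.restrict_mem`).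
Frattini clause of `hinv` (`hinv.2.2.2 N hNT ν hν`): `ν x = α ⟨ν₀ x, _⟩`, `α ∈ Aut_F(T)`, `ν₀ ∈ E.Hom N`.
`xn_frat p hS F E hEsat hinv (n + 1) hop hν₀`: `ν₀ x = β ⟨ν₁ x, _⟩`, `β ∈ Aut_E(T)`, `ν₁ ∈ E.Hom N`, `PrN F E (n+1) N ν₁`;
so `Good ν₁` (as `N` is centric and `n + 1 = card P < card N`).
`μ := ν₁.comp (Subgroup.inclusion hPN)` (`Helper25.restrict_mem`, `good_restrict`), `a := α * β`
(`β ∈ F.autGroup T` by `Helper3.CSE.autGroup_le_of_subsystem`).  Finally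
`(μ.range.subgroupOf T).map (T.subtype.comp a.toMonoidHom) = P'` by `ext` (`a (ν₁ x) = α (β (ν₁ x)) = α (ν₀ x) = ν x = φ x`
for `x ∈ P`), and rewrite `hP'fn`.
Keep statement, name, namespace exactly; you may add imports; aux names with prefix `wnoemove_`.
-/

set_option autoImplicit false

namespace Cfsg.Agent.Helper8.WNO

open Cfsg Cfsg.FusionSystem Cfsg.Agent.Helper25 Cfsg.Agent.Helper3

variable {Ω : Type*} [Group Ω] {S : Subgroup Ω}

theorem exists_good_move [Finite S] (p : ℕ) [Fact p.Prime] (hS : IsPGroup p S) (F : FusionSystem S)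
    (hF : F.IsSaturated p) {T : Subgroup Ω} (E : FusionSystem T) (hEsat : E.IsSaturated p)
    (hinv : E.IsInvariantIn F) (n : ℕ) (hop : OPn F E p (n + 1)) {P : Subgroup Ω}
    (hPc : E.IsCentric P) (hPne : P ≠ T) (hcard : Nat.card P = n + 1) :
    ∃ μ ∈ E.Hom P, Good F T P μ ∧ ∃ a ∈ F.autGroup T,
      F.IsFullyNormalized ((μ.range.subgroupOf T).map (T.subtype.comp a.toMonoidHom)) := by
  have hT : F.StronglyClosed T := hinv.2.1
  have hTS : T ≤ S := hT.1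
  have hTp : IsPGroup p T := hS.to_le hTS
  have hfinT : Finite T := finite_of_le_finite hTS
  have hPT : P ≤ T := hPc.1
  have hPS : P ≤ S := hPT.trans hTS
  have hPN : P ≤ normalizerIn T P := le_normalizerIn hPT
  have hNT : normalizerIn T P ≤ T := inf_le_left
  have hNc : E.IsCentric (normalizerIn T P) := isCentric_of_le E hPc hPN hNT
  have hlt : Nat.card P < Nat.card (normalizerIn T P) :=
    CSE.card_lt_normalizerIn p hTp hPT hPne
  obtain ⟨P', φ, hP'fn, hφ, hmap⟩ := CSE.exists_fn_map p hS F hF hPS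
  have hNN : normalizerIn T P ≤ normalizerIn S P := inf_le_inf_right _ hTS
  have hν : φ.comp (Subgroup.inclusion hNN) ∈ F.Hom (normalizerIn T P) := restrict_mem F hNN hφ
  obtain ⟨α, hα, ν₀, hν₀, hαv⟩ := hinv.2.2.2 (normalizerIn T P) hNT _ hν
  obtain ⟨β, hβ, ν₁, hν₁, hPr, hβv⟩ := xn_frat p hS F E hEsat hinv (n + 1) hop hν₀
  have hgood : Good F T (normalizerIn T P) ν₁ := hPr hNc (by rw [← hcard]; exact hlt)
  have hβF : β ∈ F.autGroup T := CSE.autGroup_le_of_subsystem E F hinv.1 hTS le_rfl hβ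
  have hν₁T : ∀ z : ↥(normalizerIn T P), ν₁ z ∈ T := (E.le_of_mem hν₁).2
  have hν₀T : ∀ z : ↥(normalizerIn T P), ν₀ z ∈ T := (E.le_of_mem hν₀).2
  have hkey : ∀ x : P, φ ⟨(x : Ω), le_normalizerIn hPS x.2⟩ =
      (((α * β) ⟨ν₁ (Subgroup.inclusion hPN x), hν₁T _⟩ : T) : Ω) := by
    intro x
    have h1 := hαv (Subgroup.inclusion hPN x) (hν₀T _)
    have h2 := hβv (Subgroup.inclusion hPN x) (hν₁T _)
    have e : (⟨ν₀ (Subgroup.inclusion hPN x), hν₀T _⟩ : T) =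
        β ⟨ν₁ (Subgroup.inclusion hPN x), hν₁T _⟩ := Subtype.ext h2
    show φ ⟨(x : Ω), _⟩ = ((α (β ⟨ν₁ (Subgroup.inclusion hPN x), hν₁T _⟩) : T) : Ω)
    rw [← e]
    exact h1
  refine ⟨ν₁.comp (Subgroup.inclusion hPN), restrict_mem E hPN hν₁, good_restrict F hPN hgood,
    α * β, (F.autGroup T).mul_mem hα hβF, ?_⟩
  have himg : ((ν₁.comp (Subgroup.inclusion hPN)).range.subgroupOf T).map
      (T.subtype.comp (α * β).toMonoidHom) = P' := by
    rw [← hmap]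
    ext y
    constructor
    · rintro ⟨t, ht, rfl⟩
      obtain ⟨x, hx⟩ := Subgroup.mem_subgroupOf.mp ht
      refine ⟨⟨(x : Ω), le_normalizerIn hPS x.2⟩, Subgroup.mem_subgroupOf.mpr x.2, ?_⟩
      have e : t = ⟨ν₁ (Subgroup.inclusion hPN x), hν₁T _⟩ := Subtype.ext hx.symm
      rw [hkey x, e]
      rfl
    · rintro ⟨z, hz, rfl⟩
      have hzP : (z : Ω) ∈ P := Subgroup.mem_subgroupOf.mp hz
      refine ⟨⟨ν₁ (Subgroup.inclusion hPN ⟨(z : Ω), hzP⟩), hν₁T _⟩,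
        Subgroup.mem_subgroupOf.mpr ⟨⟨(z : Ω), hzP⟩, rfl⟩, ?_⟩
      have h3 := hkey ⟨(z : Ω), hzP⟩
      have e : (⟨((⟨(z : Ω), hzP⟩ : P) : Ω), le_normalizerIn hPS hzP⟩ : ↥(normalizerIn S P)) = z :=
        Subtype.ext rfl
      rw [e] at h3
      rw [h3]
      rfl
  rw [himg]
  exact hP'fn

end Cfsg.Agent.Helper8.WNO
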