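import Mathlib
import Cfsg.Agent.Lib.WNO.WNOEDefs
import Cfsg.Agent.Lib.WNO.WNOECen
import Cfsg.Agent.Lib.WNO.WNOEFn
import Cfsg.Agent.Lib.WNO.WNOEIso
import Cfsg.Agent.Lib.WNO.WNOEConj
import Cfsg.Agent.Lib.WNO.WNOEMove
import Cfsg.Agent.Lib.Helper16.PPowNormal3

/-!
# S5141 farm (design helper8), piece WNOE-STEP (MEDIUM): the downward induction `OPn (n+1) → OPn n`, and `OPn 0`

* `op_step`: let `P` be `E`-centric with `n < card P`.  If `n + 1 < card P` use `h`.  Otherwise `card P = n + 1`.
  - `P = T`: `T` is fully `F`-normalized, so `pelGood_fn`.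
  - `P ≠ T`: `exists_good_move` gives `μ`, `a`; `pelGood_fn` on `a(μ.range)`; `pelGood_of_aut`; `pelGood_of_iso`.
* `op_all`: `OPn F E p (Nat.card T)` holds vacuously; then `∀ k, OPn F E p (Nat.card T - k)` by induction on `k`.
Aux names with prefix `wnoestep_`.
-/

set_option autoImplicit false

namespace Cfsg.Agent.Helper8.WNO

open Cfsg Cfsg.FusionSystem Cfsg.Agent.Helper25 Cfsg.Agent.Helper3

variable {Ω : Type*} [Group Ω] {S : Subgroup Ω}

theorem op_step [Finite S] (p : ℕ) [Fact p.Prime] (hS : IsPGroup p S) (F : FusionSystem S)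
    (hF : F.IsSaturated p) {T : Subgroup Ω} (E : FusionSystem T) (hEsat : E.IsSaturated p)
    (hinv : E.IsInvariantIn F) (n : ℕ) (h : OPn F E p (n + 1)) : OPn F E p n := by
  intro P hPc hn
  by_cases hlt : n + 1 < Nat.card P
  · exact h P hPc hlt
  have hcard : Nat.card P = n + 1 := by omega
  by_cases hPT : P = T
  · have hPcT : E.IsCentric T := hPT ▸ hPc
    have hfn := Cfsg.Agent.Helper16.PPowNormal.isFullyNormalized_of_stronglyClosed F hinv.2.1
    rw [hPT]
    exact pelGood_fn p hS F hF E hEsat hinv hPcT hfn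
  · obtain ⟨μ, hμ, hμg, a, ha, hfn⟩ :=
      exists_good_move p hS F hF E hEsat hinv n h hPc hPT hcard
    have hμc : E.IsCentric μ.range := isCentric_of_isConj E hPc ⟨μ, hμ, rfl⟩
    have hac := isCentric_map_aut F E hinv hμc a ha
    have h1 := pelGood_fn p hS F hF E hEsat hinv hac hfn
    have h2 := pelGood_of_aut p hS F hF E hinv hμc.1 a ha h1
    exact pelGood_of_iso p F E hinv hPc hμ hμg h2

theorem op_all [Finite S] (p : ℕ) [Fact p.Prime] (hS : IsPGroup p S) (F : FusionSystem S)
    (hF : F.IsSaturated p) {T : Subgroup Ω} (E : FusionSystem T) (hEsat : E.IsSaturated p)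
    (hinv : E.IsInvariantIn F) : OPn F E p 0 := by
  have hTS : T ≤ S := hinv.2.1.1
  haveI : Finite T := Finite.of_injective (Subgroup.inclusion hTS) (Subgroup.inclusion_injective hTS)
  have htop : OPn F E p (Nat.card T) := by
    intro P hPc hn
    exfalso
    have hle := Subgroup.card_le_of_le hPc.1
    omega
  have hk : ∀ k, OPn F E p (Nat.card T - k) := by
    intro k
    induction k with
    | zero => exact htop
    | succ k ih =>
      by_cases hlt : k < Nat.card T
      · have e : Nat.card T - k = (Nat.card T - (k + 1)) + 1 := by omega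
        rw [e] at ih
        exact op_step p hS F hF E hEsat hinv _ ih
      · have e : Nat.card T - (k + 1) = Nat.card T - k := by omega
        rw [e]
        exact ih
  have h0 := hk (Nat.card T)
  rwa [Nat.sub_self] at h0

end Cfsg.Agent.Helper8.WNO
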