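import Mathlib
import Cfsg.Agent.Lib.WNO.WNOEXn
import Cfsg.Agent.Lib.WNO.WNOEStep
import Cfsg.Agent.Lib.WNO.WNOEExt
import Cfsg.Agent.Lib.Helper3.PPrimeRes
import Cfsg.Agent.Lib.Helper3.WClos1

/-!
# S5141 (design helper8): `XN F E hinv 0` is admissible in `E`, hence every automorphism of `T` in `minSys E p` is `Good`
-/

set_option autoImplicit false

namespace Cfsg.Agent.Helper8.WNO

open Cfsg Cfsg.FusionSystem Cfsg.Agent.Helper25 Cfsg.Agent.Helper3.PPrimeRes

variable {Ω : Type*} [Group Ω] {S : Subgroup Ω}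

theorem adm_XN0 [Finite S] (p : ℕ) [Fact p.Prime] (hS : IsPGroup p S) (F : FusionSystem S)
    (hF : F.IsSaturated p) {T : Subgroup Ω} (E : FusionSystem T) (hEsat : E.IsSaturated p)
    (hinv : E.IsInvariantIn F) : Adm E p (XN F E hinv 0) := by
  have hTS : T ≤ S := hinv.2.1.1
  have hop := op_all p hS F hF E hEsat hinv
  refine ⟨fun _ _ h => h.1, ?_, ?_⟩
  · intro P hPc
    rw [OpPrime_eq_closure]
    refine (Subgroup.closure_le _).mpr ?_
    rintro γ ⟨hγ, k, hk⟩
    rw [SetLike.mem_coe, mem_autGroup_iff (XN F E hinv 0) hPc.1]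
    exact ⟨(mem_autGroup_iff E hPc.1 γ).mp hγ, fun hc hn => hop P hc hn γ hγ k hk⟩
  · intro R ψ hψ P hPR hPc h
    haveI : Finite P := finite_of_le_finite (hPc.1.trans hTS)
    exact ⟨hψ, fun _ _ => ext_good p hS F hF E hEsat hinv hop hψ hPR hPc (h.2 hPc Nat.card_pos)⟩

theorem good_of_mem_minSys [Finite S] (p : ℕ) [Fact p.Prime] (hS : IsPGroup p S)
    (F : FusionSystem S) (hF : F.IsSaturated p) {T : Subgroup Ω} (E : FusionSystem T)
    (hEsat : E.IsSaturated p) (hinv : E.IsInvariantIn F) (α : MulAut T)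
    (hα : α ∈ (minSys E p).autGroup T) : Good F T T (T.subtype.comp α.toMonoidHom) := by
  have hTS : T ≤ S := hinv.2.1.1
  haveI : Finite T := finite_of_le_finite hTS
  have h1 := (mem_autGroup_iff (minSys E p) le_rfl α).mp hα
  have h2 := minSys_le_of_adm (adm_XN0 p hS F hF E hEsat hinv) T h1
  exact h2.2 (Cfsg.Agent.Helper3.WC.isCentric_self E) Nat.card_pos

end Cfsg.Agent.Helper8.WNO
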