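import Mathlib
import Cfsg.Agent.Lib.WNO.WNOEGood
import Cfsg.Agent.Lib.CSE.CSEExtQ

/-!
# S5141 farm (design helper8), piece WNOE-TOP (MEDIUM): `Good` at `T` is the extension clause of `IsNormalIn`

Witness `ψ ∈ F.Hom (T ⊔ K)` (`K := centralizerIn S T`), `ψ (incl x) = α x ∈ T`, `c⁻¹ * ψ c ∈ T`.
* `ψ` maps `T ⊔ K` into `T ⊔ K` (`Helper3.CSE.cseextq_sup_mem`: `ψ c = c * (c⁻¹ * ψ c)`); it is injective
  (`F.injective_of_mem`), `T ⊔ K` is finite (`Helper25.finite_of_le_finite`), so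
  `β := MulEquiv.ofBijective (ψ.codRestrict _ _) _` (`Finite.injective_iff_bijective`) and
  `β ∈ F.autGroup (T ⊔ K)` by `Helper25.mem_autGroup_iff` (`(T ⊔ K).subtype.comp β.toMonoidHom = ψ` by `ext`).
* last clause: for `c` with `(c : Ω) ∈ K`: `c⁻¹ * ψ c ∈ T`; and it centralizes `T`: every `t ∈ T` is `ψ (incl t')`,
  `t' := α⁻¹ t`; `c` commutes with `t'` and with `t`, so `ψ c` commutes with `ψ (incl t') = t`.
  (`Subgroup.mem_inf`, `Subgroup.mem_centralizer_iff`.)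
Keep statement, name, namespace exactly; you may add imports; aux names with prefix `wnoetop_`.
-/

set_option autoImplicit false

namespace Cfsg.Agent.Helper8.WNO

open Cfsg Cfsg.FusionSystem Cfsg.Agent.Helper25 Cfsg.Agent.Helper3

variable {Ω : Type*} [Group Ω] {S : Subgroup Ω}

theorem normal_clause_of_good [Finite S] (F : FusionSystem S) {T : Subgroup Ω} (hTS : T ≤ S)
    (α : MulAut T) (h : Good F T T (T.subtype.comp α.toMonoidHom)) :
    ∃ β ∈ F.autGroup (T ⊔ centralizerIn S T),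
      (∀ x : T, ((β (Subgroup.inclusion le_sup_left x) : ↥(T ⊔ centralizerIn S T)) : Ω) = ((α x : T) : Ω)) ∧
      ∀ c : ↥(T ⊔ centralizerIn S T), (c : Ω) ∈ centralizerIn S T →
        (c : Ω)⁻¹ * ((β c : ↥(T ⊔ centralizerIn S T)) : Ω) ∈ T ⊓ Subgroup.centralizer (T : Set Ω) := by
  obtain ⟨ψ, hψ, hψT, hψK⟩ := h
  have hMS : T ⊔ centralizerIn S T ≤ S := sup_le hTS centralizerIn_le
  have hfin : Finite ↥(T ⊔ centralizerIn S T) := finite_of_le_finite hMS
  have hKc : ∀ c ∈ centralizerIn S T, ∀ t ∈ T, t * c = c * t := fun c hc t ht =>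
    (mem_centralizerIn.mp hc).2 t ht
  have hM : ∀ w : ↥(T ⊔ centralizerIn S T), ψ w ∈ T ⊔ centralizerIn S T := by
    apply CSE.cseextq_sup_mem ψ (T ⊔ centralizerIn S T)
    · intro a ha
      have h1 := hψT ⟨a, ha⟩
      have h2 : ψ ⟨a, (le_sup_left : T ≤ T ⊔ centralizerIn S T) ha⟩ = ((α ⟨a, ha⟩ : T) : Ω) := h1
      rw [h2]
      exact (le_sup_left : T ≤ T ⊔ centralizerIn S T) (α ⟨a, ha⟩).2
    · intro b hb
      have h1 := hψK ⟨b, hb⟩
      have h2 : ψ ⟨b, (le_sup_right : centralizerIn S T ≤ T ⊔ centralizerIn S T) hb⟩ =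
          b * (b⁻¹ * ψ ⟨b, (le_sup_right : centralizerIn S T ≤ T ⊔ centralizerIn S T) hb⟩) := by
        group
      rw [h2]
      exact Subgroup.mul_mem _ ((le_sup_right : centralizerIn S T ≤ T ⊔ centralizerIn S T) hb)
        ((le_sup_left : T ≤ T ⊔ centralizerIn S T) h1)
  have hinj : Function.Injective (ψ.codRestrict (T ⊔ centralizerIn S T) hM) := by
    intro a b hab
    exact F.injective_of_mem hψ (congrArg Subtype.val hab)
  have hbij : Function.Bijective (ψ.codRestrict (T ⊔ centralizerIn S T) hM) :=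
    Finite.injective_iff_bijective.mp hinj
  let β : MulAut ↥(T ⊔ centralizerIn S T) :=
    MulEquiv.ofBijective (ψ.codRestrict (T ⊔ centralizerIn S T) hM) hbij
  have hβv : ∀ w : ↥(T ⊔ centralizerIn S T), ((β w : ↥(T ⊔ centralizerIn S T)) : Ω) = ψ w :=
    fun w => rfl
  refine ⟨β, ?_, ?_, ?_⟩
  · rw [mem_autGroup_iff F hMS]
    have heq : (T ⊔ centralizerIn S T).subtype.comp β.toMonoidHom = ψ := by
      ext w
      rfl
    rw [heq]
    exact hψ
  · intro x
    rw [hβv]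
    exact hψT x
  · intro c hc
    rw [hβv]
    have hcT : (c : Ω)⁻¹ * ψ c ∈ T := by
      have h1 := hψK ⟨c, hc⟩
      have e : Subgroup.inclusion (le_sup_right : centralizerIn S T ≤ T ⊔ centralizerIn S T)
          ⟨(c : Ω), hc⟩ = c := Subtype.ext rfl
      rwa [e] at h1
    refine ⟨hcT, ?_⟩
    show (c : Ω)⁻¹ * ψ c ∈ Subgroup.centralizer (T : Set Ω)
    rw [Subgroup.mem_centralizer_iff]
    intro t ht
    -- `t = ψ (incl t')`
    have ht' : ψ (Subgroup.inclusion le_sup_left (α.symm ⟨t, ht⟩)) = t := by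
      rw [hψT]
      show ((α (α.symm ⟨t, ht⟩) : T) : Ω) = t
      rw [MulEquiv.apply_symm_apply]
    have hcomm : c * Subgroup.inclusion le_sup_left (α.symm ⟨t, ht⟩) =
        Subgroup.inclusion le_sup_left (α.symm ⟨t, ht⟩) * c := by
      apply Subtype.ext
      exact (hKc c hc _ (α.symm ⟨t, ht⟩).2).symm
    have h3 : ψ c * t = t * ψ c := by
      rw [← ht', ← map_mul, ← map_mul, hcomm]
    have h4 : t * (c : Ω)⁻¹ = (c : Ω)⁻¹ * t := by
      have h5 := hKc c hc t ht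
      calc t * (c : Ω)⁻¹ = (c : Ω)⁻¹ * (c * t) * (c : Ω)⁻¹ := by group
        _ = (c : Ω)⁻¹ * (t * c) * (c : Ω)⁻¹ := by rw [h5]
        _ = (c : Ω)⁻¹ * t := by group
    calc t * ((c : Ω)⁻¹ * ψ c) = (t * (c : Ω)⁻¹) * ψ c := by group
      _ = (c : Ω)⁻¹ * t * ψ c := by rw [h4]
      _ = (c : Ω)⁻¹ * (t * ψ c) := by group
      _ = (c : Ω)⁻¹ * (ψ c * t) := by rw [h3]
      _ = (c : Ω)⁻¹ * ψ c * t := by group

end Cfsg.Agent.Helper8.WNO
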