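import Mathlib
import Cfsg.Agent.Lib.Helper3.PPrimeRes
import Cfsg.Agent.Lib.Helper25.FusionPrimeIndex
import Cfsg.Agent.Lib.Helper25.FusionPrimeIndex2
import Cfsg.Agent.Lib.Helper25.FusionInvariant

/-!
# S5141 farm (design helper8), piece WNOM-OP (MEDIUM): `O^{p'}(Aut_E(P)) ≤ Aut_{invCore G (minSys E p)}(P)`

`G`, `E` fusion systems over the same `T`, `E` invariant under `Aut_G(T)` (`hAI : AutInv G E`), and `Aut_G(T)` preserves
`E`-centricity (`hcen`).  ADAPT the proof of `Helper3.PIX.OpPrime_le_invCore_fam` (`Lib/PIX/PIXFratA.lean`, l.27-55), with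
`F := G` for `invCore`/`InvPr`, `E := minSys E p`, and `OpPrime E`:
`rw [OpPrime_eq_closure]; closure_le`; for `γ ∈ Aut_E(P)`, `orderOf γ = p ^ k`:
first component `(mem_autGroup_iff (minSys E p) hPT γ).mp ((adm_minSys E p).op P hP (mem_OpPrime_of_orderOf E hγ hk))`;
`InvPr`: `intro α hα hP' hφS`; `γ' := MulAut.congr (autRestr hPT α) γ`.  Here (NEW) `γ' ∈ E.autGroup (αP)`: `hAI hα hPT hφ`
(`φ := P.subtype.comp γ.toMonoidHom ∈ E.Hom P`) gives `χ₀ ∈ E.Hom (αP)` with `χ₀ (α x) = α (γ x)`, and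
`(αP).subtype.comp γ'.toMonoidHom = χ₀` by `ext` (elements of `αP` are `α x`: `mem_map_aut_iff`).  `orderOf γ' = p ^ k`
(`MulEquiv.orderOf_eq`); `αP` is `E`-centric (`hcen`); so `γ' ∈ OpPrime E p (αP) ≤ (minSys E p).autGroup (αP)`
(`(adm_minSys E p).op`); finish exactly as in `OpPrime_le_invCore_fam`.
Keep statement, name, namespace exactly; you may add imports; aux names with prefix `wnomop_`.
-/

set_option autoImplicit false

namespace Cfsg.Agent.Helper8.WNO

open Cfsg Cfsg.FusionSystem Cfsg.Agent.Helper25 Cfsg.Agent.Helper3.PPrimeRes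

variable {Ω : Type*} [Group Ω]

theorem op_le_invCore_minSys (p : ℕ) {T : Subgroup Ω} (G E : FusionSystem T) (hAI : AutInv G E)
    (hcen : ∀ a ∈ G.autGroup T, ∀ P : Subgroup Ω, E.IsCentric P →
      E.IsCentric ((P.subgroupOf T).map (T.subtype.comp a.toMonoidHom)))
    {P : Subgroup Ω} (hP : E.IsCentric P) :
    OpPrime E p P ≤ (invCore G (minSys E p)).autGroup P := by
  sorry

end Cfsg.Agent.Helper8.WNO
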