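import Mathlib
import Cfsg.Agent.Lib.WNO.WNOMOp

/-!
# S5141 farm (design helper8), piece WNOM-EXT (MEDIUM): `invCore G (minSys E p)` is admissible; `minSys E p` is `Aut_G(T)`-invariant

ADAPT `Helper3.PIX.admH_invCore` / `F0_autInv` (`Lib/PIX/PIXInv.lean`); it is SIMPLER here because the conjugate map comes
directly from `hAI`.
* `adm_invCore_minSys`: `le := fun P φ h => (adm_minSys E p).le P (invCore_le G _ h)`; `op := op_le_invCore_minSys ..`;
  `ext R ψ hψ P hPR hPc h`: `hψ0 : ψ ∈ (minSys E p).Hom R := (adm_minSys E p).ext R ψ hψ P hPR hPc (invCore_le G _ h)`;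
  `refine ⟨hψ0, ?_⟩; intro α hα hR hψS`; `obtain ⟨χ, hχE, hχv⟩ := hAI hα hR hψ` (`χ ∈ E.Hom (αR)`, `χ (α x) = α (ψ x)`);
  `refine ⟨χ, ?_, hχv⟩` (up to proof irrelevance); `αP ≤ αR` (`hle`), `αP` is `E`-centric (`hcen α hα P hPc`);
  `refine (adm_minSys E p).ext _ χ hχE _ hle hαPc ?_`; `obtain ⟨χ', hχ', hχ'v⟩ := h.2 α hα hPS (fun x => hψS _)`;
  `χ.comp (Subgroup.inclusion hle) = χ'` by `ext` (as in `PIXInv.lean` l.108-113); rewrite.
* `minSys_autInv`: `minSys_le_of_adm (adm_invCore_minSys ..)` then `invCore_autInv G (minSys E p)` and `invCore_le`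
  (copy `F0_autInv`).
Keep statements, names, namespace exactly; you may add imports; aux names with prefix `wnomext_`.
-/

set_option autoImplicit false

namespace Cfsg.Agent.Helper8.WNO

open Cfsg Cfsg.FusionSystem Cfsg.Agent.Helper25 Cfsg.Agent.Helper3.PPrimeRes

variable {Ω : Type*} [Group Ω]

theorem adm_invCore_minSys (p : ℕ) {T : Subgroup Ω} (G E : FusionSystem T) (hAI : AutInv G E)
    (hcen : ∀ a ∈ G.autGroup T, ∀ P : Subgroup Ω, E.IsCentric P →
      E.IsCentric ((P.subgroupOf T).map (T.subtype.comp a.toMonoidHom))) :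
    Adm E p (invCore G (minSys E p)) := by
  sorry

theorem minSys_autInv (p : ℕ) {T : Subgroup Ω} (G E : FusionSystem T) (hAI : AutInv G E)
    (hcen : ∀ a ∈ G.autGroup T, ∀ P : Subgroup Ω, E.IsCentric P →
      E.IsCentric ((P.subgroupOf T).map (T.subtype.comp a.toMonoidHom))) :
    AutInv G (minSys E p) := by
  sorry

end Cfsg.Agent.Helper8.WNO
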