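import Mathlib
import Cfsg.Agent.Lib.WNO.WNOMExt
import Cfsg.Agent.Lib.WNO.WNOECen
import Cfsg.Agent.Lib.Helper26.FusionRestrict
import Cfsg.Agent.Lib.CSE.CSEBasic

/-!
# S5141 farm (design helper8), piece WNOM-INV (MEDIUM): `minSys E p` is invariant in `F`

`E` saturated over `T`, invariant in the saturated `F`.  The four clauses of `IsInvariantIn`:
1. `fun P φ h => hinv.1 P ((adm_minSys E p).le P h)`.   2. `hinv.2.1`.
3. `G := Helper26.resSys F T hTS` (over `T`; `α ∈ G.autGroup T ↔ α ∈ F.autGroup T` via `Helper25.mem_autGroup_iff` twice and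
   `Helper26.mem_resSys`).  `hAI : AutInv G E` from `(Helper25.strongInv_of_isInvariantIn hinv).autInv hTS`; `hcen` from
   `isCentric_map_aut`.  `minSys_autInv p G E hAI hcen` gives `χ`; finish as in `Helper3.PIX.isNormalIn_of_autInv_fratS`
   (`Lib/PIX/PIXNormal.lean`): `⟨χ, hχ, fun x _ _ => hχv x⟩`.
4. Frattini: `hinv.2.2.2 P hPT φ hφ` gives `φ x = α ⟨φ₁ x, _⟩`, `φ₁ ∈ E.Hom P`; `(minSys_facts p hTp E hEsat).2.1 P φ₁ hφ₁` gives
   `φ₁ x = β ⟨φ₀ x, _⟩`, `β ∈ E.autGroup T`, `φ₀ ∈ (minSys E p).Hom P`; answer `α * β`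
   (`β ∈ F.autGroup T`: `Helper3.CSE.autGroup_le_of_subsystem`), `φ₀`.
Keep statement, name, namespace exactly; you may add imports; aux names with prefix `wnominv_`.
-/

set_option autoImplicit false

namespace Cfsg.Agent.Helper8.WNO

open Cfsg Cfsg.FusionSystem Cfsg.Agent.Helper25 Cfsg.Agent.Helper3.PPrimeRes

variable {Ω : Type*} [Group Ω] {S : Subgroup Ω}

theorem minSys_isInvariantIn [Finite S] (p : ℕ) [Fact p.Prime] (hS : IsPGroup p S)
    (F : FusionSystem S) (hF : F.IsSaturated p) {T : Subgroup Ω} (E : FusionSystem T)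
    (hEsat : E.IsSaturated p) (hinv : E.IsInvariantIn F) : (minSys E p).IsInvariantIn F := by
  have hTS : T ≤ S := hinv.2.1.1
  have hTp : IsPGroup p T := hS.to_le hTS
  have : Finite T := Finite.of_injective (Subgroup.inclusion hTS) (Subgroup.inclusion_injective hTS)
  have hAle := (adm_minSys E p).le
  refine ⟨fun P φ h => hinv.1 P (hAle P h), hinv.2.1, ?_, ?_⟩
  · -- conjugation clause
    have hGF : ∀ α : MulAut T,
        α ∈ (Cfsg.Agent.Helper26.resSys F T hTS).autGroup T ↔ α ∈ F.autGroup T := by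
      intro α
      rw [mem_autGroup_iff (Cfsg.Agent.Helper26.resSys F T hTS) le_rfl, mem_autGroup_iff F hTS]
      constructor
      · intro h
        exact h.1
      · intro h
        exact ⟨h, le_rfl, fun x => (α x).2⟩
    have hAIF : AutInv F E := (strongInv_of_isInvariantIn hinv).autInv hTS
    have hAI : AutInv (Cfsg.Agent.Helper26.resSys F T hTS) E := by
      intro α hα P hPT φ hφ
      exact hAIF ((hGF α).1 hα) hPT hφ
    have hcen : ∀ a ∈ (Cfsg.Agent.Helper26.resSys F T hTS).autGroup T, ∀ P : Subgroup Ω,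
        E.IsCentric P → E.IsCentric ((P.subgroupOf T).map (T.subtype.comp a.toMonoidHom)) :=
      fun a ha P hP => isCentric_map_aut F E hinv hP a ((hGF a).1 ha)
    have hAIm : AutInv (Cfsg.Agent.Helper26.resSys F T hTS) (minSys E p) :=
      minSys_autInv p (Cfsg.Agent.Helper26.resSys F T hTS) E hAI hcen
    intro P hPT φ hφ α hα
    obtain ⟨χ, hχ, hχv⟩ := hAIm ((hGF α).2 hα) hPT hφ
    exact ⟨χ, hχ, fun x _ _ => hχv x⟩
  · -- Frattini clause
    intro P hPT φ hφ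
    obtain ⟨α, hα, φ₁, hφ₁, hv⟩ := hinv.2.2.2 P hPT φ hφ
    obtain ⟨β, hβ, φ₀, hφ₀, hv0⟩ := (minSys_facts p hTp E hEsat).2.1 P φ₁ hφ₁
    have hβF : β ∈ F.autGroup T :=
      Cfsg.Agent.Helper3.CSE.autGroup_le_of_subsystem E F hinv.1 hTS le_rfl hβ
    refine ⟨α * β, mul_mem hα hβF, φ₀, hφ₀, ?_⟩
    intro x hx
    have h1 := hv0 x hx
    have hφ₁T : φ₁ x ∈ T := (E.le_of_mem hφ₁).2 x
    rw [hv x hφ₁T]
    have e : (⟨φ₁ x, hφ₁T⟩ : T) = β ⟨φ₀ x, hx⟩ := Subtype.ext h1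
    rw [e]
    rfl

end Cfsg.Agent.Helper8.WNO
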